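import Cfsg.Agent.LieClassical.OrthTrans

/-!
# S1920, case B, `POmega`, the group `D₈ ∘ Q₈` (helper14): the algebra

`AO Q W n1 m1 n2 m2 α β` : isometries `n1, m1` (generating a `D₈`) and `n2, m2` (generating a `Q₈`) of the subspace `W`,
`α² + β² = -1`.  `Mo` = `{v ∈ W | n1 v = v, α n2 v + β m2 v = v}` is totally isotropic and carries the alternating form
`B(v, d w)`, `d = n2 m2`; `Sp(Mo)` acts on `V` and commutes with `n1, m1, n2, m2`:
* `T v w` : the rank one operator `u ↦ B(d w, u) v` of `Mo`, extended to `V`; `T_comp`, `T_comm`;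
* `exists_X` : the elements of `SL₂(K)` on a hyperbolic plane of `Mo` extend to elements of `Ω(V) = E Q`.
-/

set_option autoImplicit false
set_option linter.unusedVariables false

namespace Cfsg.Agent.H14.C3

open Cfsg.Agent.LieClassical.OrthCore QuadraticMap

variable {K : Type*} [Field K] {V : Type*} [AddCommGroup V] [Module K V]

/-- the configuration `D₈ ∘ Q₈` on the subspace `W` -/
structure AO (Q : QuadraticForm K V) (W : Submodule K V) (n1 m1 n2 m2 : V ≃ₗ[K] V) (α β : K) : Prop where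
  two : (2 : K) ≠ 0
  On1 : n1 ∈ O Q
  Om1 : m1 ∈ O Q
  On2 : n2 ∈ O Q
  Om2 : m2 ∈ O Q
  Wn1 : ∀ v ∈ W, n1 v ∈ W
  Wm1 : ∀ v ∈ W, m1 v ∈ W
  Wn2 : ∀ v ∈ W, n2 v ∈ W
  Wm2 : ∀ v ∈ W, m2 v ∈ W
  n1n1 : ∀ v ∈ W, n1 (n1 v) = v
  m1m1 : ∀ v ∈ W, m1 (m1 v) = v
  n2n2 : ∀ v ∈ W, n2 (n2 v) = -v
  m2m2 : ∀ v ∈ W, m2 (m2 v) = -v
  n1m1 : ∀ v ∈ W, n1 (m1 v) = -m1 (n1 v)
  n2m2 : ∀ v ∈ W, n2 (m2 v) = -m2 (n2 v)
  n1n2 : ∀ v ∈ W, n1 (n2 v) = n2 (n1 v)
  n1m2 : ∀ v ∈ W, n1 (m2 v) = m2 (n1 v)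
  m1n2 : ∀ v ∈ W, m1 (n2 v) = n2 (m1 v)
  m1m2 : ∀ v ∈ W, m1 (m2 v) = m2 (m1 v)
  ab : α * α + β * β = -1

/-- the symplectic space -/
def Mo (W : Submodule K V) (n1 n2 m2 : V ≃ₗ[K] V) (α β : K) : Submodule K V where
  carrier := {v | v ∈ W ∧ n1 v = v ∧ α • n2 v + β • m2 v = v}
  zero_mem' := ⟨W.zero_mem, map_zero _, by simp⟩
  add_mem' := by
    rintro v w ⟨h1, h2, h3⟩ ⟨h4, h5, h6⟩
    refine ⟨W.add_mem h1 h4, by rw [map_add, h2, h5], ?_⟩
    rw [map_add, map_add]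
    calc _ = (α • n2 v + β • m2 v) + (α • n2 w + β • m2 w) := by module
      _ = _ := by rw [h3, h6]
  smul_mem' := by
    rintro c v ⟨h1, h2, h3⟩
    refine ⟨W.smul_mem c h1, by rw [map_smul, h2], ?_⟩
    rw [map_smul, map_smul]
    calc _ = c • (α • n2 v + β • m2 v) := by module
      _ = _ := by rw [h3]

theorem mem_Mo {W : Submodule K V} {n1 n2 m2 : V ≃ₗ[K] V} {α β : K} {v : V} :
    v ∈ Mo W n1 n2 m2 α β ↔ v ∈ W ∧ n1 v = v ∧ α • n2 v + β • m2 v = v := Iff.rfl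

/-- `d = n2 m2` -/
def dd (n2 m2 : V ≃ₗ[K] V) : V ≃ₗ[K] V := n2 * m2

theorem dd_apply (n2 m2 : V ≃ₗ[K] V) (v : V) : dd n2 m2 v = n2 (m2 v) := rfl

/-- the operator `T v w` -/
def TT (Q : QuadraticForm K V) (m1 d : V ≃ₗ[K] V) (v w : V) : V →ₗ[K] V :=
  (polarBilin Q (d w)).smulRight v - (polarBilin Q w).smulRight (d v)
    + (polarBilin Q (m1 (d w))).smulRight (m1 v) - (polarBilin Q (m1 w)).smulRight (m1 (d v))

theorem TT_apply (Q : QuadraticForm K V) (m1 d : V ≃ₗ[K] V) (v w y : V) :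
    TT Q m1 d v w y = polar Q (d w) y • v - polar Q w y • d v + polar Q (m1 (d w)) y • m1 v
      - polar Q (m1 w) y • m1 (d v) := rfl

/-- the extension of a 2×2 matrix -/
def XX (Q : QuadraticForm K V) (m1 d : V ≃ₗ[K] V) (v w : V) (a b c e : K) : V →ₗ[K] V :=
  LinearMap.id + (a - 1) • TT Q m1 d v w + c • TT Q m1 d w w - b • TT Q m1 d v v + (1 - e) • TT Q m1 d w v

theorem XX_apply (Q : QuadraticForm K V) (m1 d : V ≃ₗ[K] V) (v w : V) (a b c e : K) (y : V) :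
    XX Q m1 d v w a b c e y = y + (a - 1) • TT Q m1 d v w y + c • TT Q m1 d w w y - b • TT Q m1 d v v y
      + (1 - e) • TT Q m1 d w v y := rfl

theorem XX_congr {Q : QuadraticForm K V} {m1 d : V ≃ₗ[K] V} {v w : V} {a b c e a' b' c' e' : K} (h1 : a = a')
    (h2 : b = b') (h3 : c = c') (h4 : e = e') (y : V) : XX Q m1 d v w a b c e y = XX Q m1 d v w a' b' c' e' y := by
  rw [h1, h2, h3, h4]

theorem X_comm {Q : QuadraticForm K V} {m1 d : V ≃ₗ[K] V} {v w : V} {s : V ≃ₗ[K] V}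
    (h : ∀ v' w' : V, (v' = v ∨ v' = w) → (w' = v ∨ w' = w) → ∀ y, TT Q m1 d v' w' (s y) = s (TT Q m1 d v' w' y))
    (a b c e : K) (y : V) :
    XX Q m1 d v w a b c e (s y) = s (XX Q m1 d v w a b c e y) := by
  rw [XX_apply, XX_apply, h v w (Or.inl rfl) (Or.inr rfl), h w w (Or.inr rfl) (Or.inr rfl),
    h v v (Or.inl rfl) (Or.inl rfl), h w v (Or.inr rfl) (Or.inl rfl)]
  simp only [map_add, map_sub, map_smul]

namespace AO

variable {Q : QuadraticForm K V} {W : Submodule K V} {n1 m1 n2 m2 : V ≃ₗ[K] V} {α β : K}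

local notation "B" => polar Q
local notation "d" => dd n2 m2
local notation "M" => Mo W n1 n2 m2 α β

section
variable (A : AO Q W n1 m1 n2 m2 α β)
include A

theorem Od : d ∈ O Q := (O Q).mul_mem A.On2 A.Om2

theorem Wd {v : V} (hv : v ∈ W) : d v ∈ W := A.Wn2 _ (A.Wm2 _ hv)

theorem ddd {v : V} (hv : v ∈ W) : d (d v) = -v := by
  rw [dd_apply, dd_apply, A.n2m2 _ (A.Wn2 _ (A.Wm2 _ hv)), A.n2n2 _ (A.Wm2 _ hv), map_neg, neg_neg, A.m2m2 _ hv]

theorem n1d {v : V} (hv : v ∈ W) : n1 (d v) = d (n1 v) := by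
  rw [dd_apply, dd_apply, A.n1n2 _ (A.Wm2 _ hv), A.n1m2 _ hv]

theorem m1d {v : V} (hv : v ∈ W) : m1 (d v) = d (m1 v) := by
  rw [dd_apply, dd_apply, A.m1n2 _ (A.Wm2 _ hv), A.m1m2 _ hv]

theorem n2d {v : V} (hv : v ∈ W) : n2 (d v) = -d (n2 v) := by
  rw [dd_apply, dd_apply, A.n2m2 _ hv, map_neg, A.n2m2 _ (A.Wn2 _ hv)]

theorem m2d {v : V} (hv : v ∈ W) : m2 (d v) = -d (m2 v) := by
  rw [dd_apply, dd_apply, A.n2m2 _ (A.Wm2 _ hv), neg_neg]

theorem n2v {v : V} (hv : v ∈ M) : n2 v = -α • v + β • d v := by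
  obtain ⟨hW, h1, h2⟩ := hv
  have h3 := congrArg n2 h2
  rw [map_add, map_smul, map_smul, A.n2n2 _ hW, ← dd_apply] at h3
  rw [← h3]; module

theorem m2v {v : V} (hv : v ∈ M) : m2 v = -β • v - α • d v := by
  obtain ⟨hW, h1, h2⟩ := hv
  have h3 := congrArg m2 h2
  rw [map_add, map_smul, map_smul, A.m2m2 _ hW] at h3
  have h4 : m2 (n2 v) = -d v := by rw [dd_apply, A.n2m2 _ hW, neg_neg]
  rw [h4] at h3
  rw [← h3]; module

theorem half {a : K} (h : a = -a) : a = 0 := by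
  have : (2 : K) * a = 0 := by linear_combination h
  rcases mul_eq_zero.1 this with h2 | h2
  · exact absurd h2 A.two
  · exact h2

theorem Bn2 {v w : V} (hv : v ∈ W) : B (n2 v) w = - B v (n2 w) := by
  rw [← polar_map A.On2 (n2 v) w, A.n2n2 _ hv, polar_neg_left]

theorem Bm2 {v w : V} (hv : v ∈ W) : B (m2 v) w = - B v (m2 w) := by
  rw [← polar_map A.Om2 (m2 v) w, A.m2m2 _ hv, polar_neg_left]

theorem Bd {v w : V} (hv : v ∈ W) : B (d v) w = - B v (d w) := by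
  rw [← polar_map A.Od (d v) w, A.ddd hv, polar_neg_left]

theorem Bm1 {v w : V} (hv : v ∈ W) : B (m1 v) w = B v (m1 w) := by
  rw [← polar_map A.Om1 (m1 v) w, A.m1m1 _ hv]

theorem Bn1 {v w : V} (hv : v ∈ W) : B (n1 v) w = B v (n1 w) := by
  rw [← polar_map A.On1 (n1 v) w, A.n1n1 _ hv]

theorem Bdd (v w : V) : B (d v) (d w) = B v w := polar_map A.Od v w

theorem Bmm (v w : V) : B (m1 v) (m1 w) = B v w := polar_map A.Om1 v w

theorem Bvw {v w : V} (hv : v ∈ M) (hw : w ∈ M) : B v w = 0 := by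
  apply A.half
  calc B v w = B (α • n2 v + β • m2 v) w := by rw [hv.2.2]
    _ = - B v (α • n2 w + β • m2 w) := by
      rw [polar_add_left, polar_smul_left, polar_smul_left, A.Bn2 hv.1, A.Bm2 hv.1, polar_add_right,
        polar_smul_right, polar_smul_right]
      simp only [smul_eq_mul]; ring
    _ = - B v w := by rw [hw.2.2]

/-- orthogonality of the eigenspaces of `n1` -/
theorem Bm {v w : V} (hv : v ∈ W) (hw : w ∈ W) (h1 : n1 v = v) (h2 : n1 w = w) : B v (m1 w) = 0 := by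
  apply A.half
  calc B v (m1 w) = B (n1 v) (n1 (m1 w)) := (polar_map A.On1 _ _).symm
    _ = - B v (m1 w) := by rw [h1, A.n1m1 _ hw, h2, polar_neg_right]

theorem n1dv {v : V} (hv : v ∈ M) : n1 (d v) = d v := by rw [A.n1d hv.1, hv.2.1]

theorem Qv {v : V} (hv : v ∈ M) : Q v = 0 := by
  have h := A.Bvw hv hv
  rw [polar_self'] at h
  exact (mul_eq_zero.1 h).resolve_left A.two

theorem Bvdv {v : V} (hv : v ∈ W) : B v (d v) = 0 := by
  apply A.half
  rw [← A.Bd hv, polar_comm]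

theorem sym {v w : V} (hv : v ∈ W) : B (d v) w = - B (d w) v := by
  rw [A.Bd hv, polar_comm]

theorem T_M {v w u : V} (hv : v ∈ M) (hw : w ∈ M) (hu : u ∈ M) : TT Q m1 d v w u = B (d w) u • v := by
  rw [TT_apply, A.Bvw hw hu, A.Bm1 (A.Wd hw.1), A.Bm (A.Wd hw.1) hu.1 (A.n1dv hw) hu.2.1, A.Bm1 hw.1,
    A.Bm hw.1 hu.1 hw.2.1 hu.2.1]
  module

theorem T_dM {v w u : V} (hv : v ∈ M) (hw : w ∈ M) (hu : u ∈ M) : TT Q m1 d v w (d u) = B (d w) u • d v := by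
  have hd := A.Wd hu.1
  rw [TT_apply, A.Bdd, A.Bvw hw hu, A.Bm1 (A.Wd hw.1), A.Bm (A.Wd hw.1) hd (A.n1dv hw) (A.n1dv hu), A.Bm1 hw.1,
    A.Bm hw.1 hd hw.2.1 (A.n1dv hu), A.Bd hw.1]
  module

theorem T_mM {v w u : V} (hv : v ∈ M) (hw : w ∈ M) (hu : u ∈ M) : TT Q m1 d v w (m1 u) = B (d w) u • m1 v := by
  rw [TT_apply, A.Bmm, A.Bmm, A.Bvw hw hu, A.Bm (A.Wd hw.1) hu.1 (A.n1dv hw) hu.2.1,
    A.Bm hw.1 hu.1 hw.2.1 hu.2.1]
  module

theorem T_mdM {v w u : V} (hv : v ∈ M) (hw : w ∈ M) (hu : u ∈ M) :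
    TT Q m1 d v w (m1 (d u)) = B (d w) u • m1 (d v) := by
  have hd := A.Wd hu.1
  rw [TT_apply, A.Bmm, A.Bmm, A.Bdd, A.Bvw hw hu, A.Bm (A.Wd hw.1) hd (A.n1dv hw) (A.n1dv hu),
    A.Bm hw.1 hd hw.2.1 (A.n1dv hu), A.Bd hw.1]
  module

theorem T_comp {v w v' w' : V} (hv : v ∈ M) (hw : w ∈ M) (hv' : v' ∈ M) (y : V) :
    TT Q m1 d v w (TT Q m1 d v' w' y) = B (d w) v' • TT Q m1 d v w' y := by
  rw [TT_apply Q m1 d v' w' y, map_sub, map_add, map_sub, map_smul, map_smul, map_smul, map_smul,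
    A.T_M hv hw hv', A.T_dM hv hw hv', A.T_mM hv hw hv', A.T_mdM hv hw hv', TT_apply]
  module

theorem T_perp {v w y : V} (hw : w ∈ M) (hy : ∀ u ∈ W, B u y = 0) : TT Q m1 d v w y = 0 := by
  rw [TT_apply, hy _ (A.Wd hw.1), hy _ hw.1, hy _ (A.Wm1 _ (A.Wd hw.1)), hy _ (A.Wm1 _ hw.1)]
  module

theorem T_n1 {v w : V} (hv : v ∈ M) (hw : w ∈ M) (y : V) :
    TT Q m1 d v w (n1 y) = n1 (TT Q m1 d v w y) := by
  have h1 : n1 (m1 v) = -m1 v := by rw [A.n1m1 _ hv.1, hv.2.1]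
  have h2 : n1 (m1 (d v)) = -m1 (d v) := by rw [A.n1m1 _ (A.Wd hv.1), A.n1dv hv]
  have h3 : n1 (m1 w) = -m1 w := by rw [A.n1m1 _ hw.1, hw.2.1]
  have h4 : n1 (m1 (d w)) = -m1 (d w) := by rw [A.n1m1 _ (A.Wd hw.1), A.n1dv hw]
  rw [TT_apply, TT_apply, ← A.Bn1 (A.Wd hw.1), ← A.Bn1 hw.1, ← A.Bn1 (A.Wm1 _ (A.Wd hw.1)),
    ← A.Bn1 (A.Wm1 _ hw.1), h3, h4, A.n1dv hw, hw.2.1]
  simp only [map_sub, map_add, map_smul, h1, h2, hv.2.1, A.n1dv hv, polar_neg_left]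
  module

theorem T_m1 {v w : V} (hv : v ∈ M) (hw : w ∈ M) (y : V) :
    TT Q m1 d v w (m1 y) = m1 (TT Q m1 d v w y) := by
  rw [TT_apply, TT_apply, A.Bmm, A.Bmm, ← A.Bm1 (A.Wd hw.1), ← A.Bm1 hw.1]
  simp only [map_sub, map_add, map_smul, A.m1m1 _ hv.1, A.m1m1 _ (A.Wd hv.1)]
  module

theorem n2dv {v : V} (hv : v ∈ M) : n2 (d v) = α • d v + β • v := by
  rw [A.n2d hv.1, A.n2v hv, map_add, map_smul, map_smul, A.ddd hv.1]; module

theorem m2dv {v : V} (hv : v ∈ M) : m2 (d v) = β • d v - α • v := by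
  rw [A.m2d hv.1, A.m2v hv, map_sub, map_smul, map_smul, A.ddd hv.1]; module

theorem T_n2 {v w : V} (hv : v ∈ M) (hw : w ∈ M) (y : V) :
    TT Q m1 d v w (n2 y) = n2 (TT Q m1 d v w y) := by
  have e1 : B (d w) (n2 y) = -(α * B (d w) y + β * B w y) := by
    have := A.Bn2 (w := y) (A.Wd hw.1)
    rw [A.n2dv hw, polar_add_left, polar_smul_left, polar_smul_left, smul_eq_mul, smul_eq_mul] at this
    linear_combination this
  have e2 : B w (n2 y) = α * B w y - β * B (d w) y := by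
    have := A.Bn2 (w := y) hw.1
    rw [A.n2v hw, polar_add_left, polar_smul_left, polar_smul_left, smul_eq_mul, smul_eq_mul] at this
    linear_combination this
  have e3 : B (m1 (d w)) (n2 y) = -(α * B (m1 (d w)) y + β * B (m1 w) y) := by
    have := A.Bn2 (w := y) (A.Wm1 _ (A.Wd hw.1))
    rw [← A.m1n2 _ (A.Wd hw.1), A.n2dv hw, map_add, map_smul, map_smul, polar_add_left, polar_smul_left,
      polar_smul_left, smul_eq_mul, smul_eq_mul] at this
    linear_combination this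
  have e4 : B (m1 w) (n2 y) = α * B (m1 w) y - β * B (m1 (d w)) y := by
    have := A.Bn2 (w := y) (A.Wm1 _ hw.1)
    rw [← A.m1n2 _ hw.1, A.n2v hw, map_add, map_smul, map_smul, polar_add_left, polar_smul_left,
      polar_smul_left, smul_eq_mul, smul_eq_mul] at this
    linear_combination this
  rw [TT_apply, TT_apply, e1, e2, e3, e4]
  simp only [map_sub, map_add, map_smul, ← A.m1n2 _ hv.1, ← A.m1n2 _ (A.Wd hv.1), A.n2v hv, A.n2dv hv]
  module

theorem T_m2 {v w : V} (hv : v ∈ M) (hw : w ∈ M) (y : V) :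
    TT Q m1 d v w (m2 y) = m2 (TT Q m1 d v w y) := by
  have e1 : B (d w) (m2 y) = -(β * B (d w) y - α * B w y) := by
    have := A.Bm2 (w := y) (A.Wd hw.1)
    rw [A.m2dv hw, polar_sub_left, polar_smul_left, polar_smul_left, smul_eq_mul, smul_eq_mul] at this
    linear_combination this
  have e2 : B w (m2 y) = β * B w y + α * B (d w) y := by
    have := A.Bm2 (w := y) hw.1
    rw [A.m2v hw, polar_sub_left, polar_smul_left, polar_smul_left, smul_eq_mul, smul_eq_mul] at this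
    linear_combination this
  have e3 : B (m1 (d w)) (m2 y) = -(β * B (m1 (d w)) y - α * B (m1 w) y) := by
    have := A.Bm2 (w := y) (A.Wm1 _ (A.Wd hw.1))
    rw [← A.m1m2 _ (A.Wd hw.1), A.m2dv hw, map_sub, map_smul, map_smul, polar_sub_left, polar_smul_left,
      polar_smul_left, smul_eq_mul, smul_eq_mul] at this
    linear_combination this
  have e4 : B (m1 w) (m2 y) = β * B (m1 w) y + α * B (m1 (d w)) y := by
    have := A.Bm2 (w := y) (A.Wm1 _ hw.1)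
    rw [← A.m1m2 _ hw.1, A.m2v hw, map_sub, map_smul, map_smul, polar_sub_left, polar_smul_left,
      polar_smul_left, smul_eq_mul, smul_eq_mul] at this
    linear_combination this
  rw [TT_apply, TT_apply, e1, e2, e3, e4]
  simp only [map_sub, map_add, map_smul, ← A.m1m2 _ hv.1, ← A.m1m2 _ (A.Wd hv.1), A.m2v hv, A.m2dv hv]
  module

/-- commutation with an isometry acting by `ε` -/
theorem T_eps {v w : V} {s : V ≃ₗ[K] V} {ε : K} (hε : ε * ε = 1) (hs : s ∈ O Q)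
    (hsm : ∀ u ∈ W, s (m1 u) = m1 (s u)) (hsd : ∀ u ∈ W, s (d u) = d (s u))
    (hv : v ∈ M) (hw : w ∈ M) (h1 : s v = ε • v) (h2 : s w = ε • w) (y : V) :
    TT Q m1 d v w (s y) = s (TT Q m1 d v w y) := by
  have key : ∀ u : V, s u = ε • u → B u (s y) = ε * B u y := by
    intro u hu
    have h3 := polar_map hs u y
    rw [hu, polar_smul_left, smul_eq_mul] at h3
    calc B u (s y) = ε * (ε * B u (s y)) := by rw [← mul_assoc, hε, one_mul]
      _ = _ := by rw [h3]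
  have hdw : s (d w) = ε • d w := by rw [hsd _ hw.1, h2, map_smul]
  have hdv : s (d v) = ε • d v := by rw [hsd _ hv.1, h1, map_smul]
  rw [TT_apply, TT_apply, key _ hdw, key _ h2, key _ (by rw [hsm _ (A.Wd hw.1), hdw, map_smul]),
    key _ (by rw [hsm _ hw.1, h2, map_smul])]
  simp only [map_sub, map_add, map_smul, h1, hdv, hsm _ hv.1, hsm _ (A.Wd hv.1)]
  module

/-- the elements of `E Q` commuting with everything -/
theorem exists_tau {v : V} (hv : v ∈ M) (a : K) : ∃ g ∈ E Q, ∀ y, g y = y + a • TT Q m1 d v v y := by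
  have hQv := A.Qv hv
  have hQm : Q (m1 v) = 0 := by rw [mem_O.1 A.Om1, hQv]
  have hdv : Q (d v) = 0 := by rw [mem_O.1 A.Od, hQv]
  have hQmd : Q (m1 (d v)) = 0 := by rw [mem_O.1 A.Om1, hdv]
  have h1 : B v (-a • d v) = 0 := by rw [polar_smul_right, A.Bvdv hv.1, smul_zero]
  have h2 : B (m1 v) (-a • m1 (d v)) = 0 := by rw [polar_smul_right, A.Bmm, A.Bvdv hv.1, smul_zero]
  refine ⟨siegel Q v (-a • d v) hQv h1 * siegel Q (m1 v) (-a • m1 (d v)) hQm h2,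
    (E Q).mul_mem (siegel_mem_E _ _) (siegel_mem_E _ _), fun y => ?_⟩
  change siegel Q v (-a • d v) hQv h1 (siegel Q (m1 v) (-a • m1 (d v)) hQm h2 y) = _
  rw [siegel_apply, siegel_apply, TT_apply]
  have z1 : B v (m1 v) = 0 := A.Bm hv.1 hv.1 hv.2.1 hv.2.1
  have z2 : B v (m1 (d v)) = 0 := A.Bm hv.1 (A.Wd hv.1) hv.2.1 (A.n1dv hv)
  have z3 : B (d v) (m1 v) = 0 := A.Bm (A.Wd hv.1) hv.1 (A.n1dv hv) hv.2.1
  have z4 : B (d v) (m1 (d v)) = 0 := A.Bm (A.Wd hv.1) (A.Wd hv.1) (A.n1dv hv) (A.n1dv hv)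
  simp only [polar_add_right, polar_sub_right, polar_smul_right, polar_smul_left, z1, z2, z3, z4, smul_eq_mul,
    QuadraticMap.map_smul, hdv, hQmd]
  module

/-- products of the extensions -/
theorem X_comp {v w : V} (hv : v ∈ M) (hw : w ∈ M) (h : B (d w) v = 1) (a b c e a' b' c' e' : K) (y : V) :
    XX Q m1 d v w a b c e (XX Q m1 d v w a' b' c' e' y)
      = XX Q m1 d v w (a * a' + b * c') (a * b' + b * e') (c * a' + e * c') (c * b' + e * e') y := by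
  have h1 : B (d v) w = -1 := by rw [A.sym hv.1, h]
  have h2 : B (d v) v = 0 := by rw [polar_comm, A.Bvdv hv.1]
  have h3 : B (d w) w = 0 := by rw [polar_comm, A.Bvdv hw.1]
  simp only [XX_apply, map_add, map_sub, map_smul, A.T_comp hv hw hv, A.T_comp hv hw hw, A.T_comp hw hw hv,
    A.T_comp hw hw hw, A.T_comp hv hv hv, A.T_comp hv hv hw, A.T_comp hw hv hv, A.T_comp hw hv hw, h, h1, h2, h3]
  module

theorem X_v {v w : V} (hv : v ∈ M) (hw : w ∈ M) (h : B (d w) v = 1) (a b c e : K) :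
    XX Q m1 d v w a b c e v = a • v + c • w := by
  have h2 : B (d v) v = 0 := by rw [polar_comm, A.Bvdv hv.1]
  rw [XX_apply, A.T_M hv hw hv, A.T_M hw hw hv, A.T_M hv hv hv, A.T_M hw hv hv, h, h2]
  module

theorem X_w {v w : V} (hv : v ∈ M) (hw : w ∈ M) (h : B (d w) v = 1) (a b c e : K) :
    XX Q m1 d v w a b c e w = b • v + e • w := by
  have h1 : B (d v) w = -1 := by rw [A.sym hv.1, h]
  have h3 : B (d w) w = 0 := by rw [polar_comm, A.Bvdv hw.1]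
  rw [XX_apply, A.T_M hv hw hw, A.T_M hw hw hw, A.T_M hv hv hw, A.T_M hw hv hw, h1, h3]
  module

theorem X_perp {v w y : V} (hv : v ∈ M) (hw : w ∈ M) (a b c e : K) (hy : ∀ u ∈ W, B u y = 0) :
    XX Q m1 d v w a b c e y = y := by
  rw [XX_apply, A.T_perp hw hy, A.T_perp hw hy, A.T_perp hv hy, A.T_perp hv hy]
  module

/-- the extensions of orthogonal planes commute -/
theorem X_orth {v w v' w' : V} (hv : v ∈ M) (hw : w ∈ M) (hv' : v' ∈ M) (hw' : w' ∈ M)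
    (h1 : B (d v) v' = 0) (h2 : B (d v) w' = 0) (h3 : B (d w) v' = 0) (h4 : B (d w) w' = 0)
    (a b c e a' b' c' e' : K) (y : V) :
    XX Q m1 d v w a b c e (XX Q m1 d v' w' a' b' c' e' y)
      = XX Q m1 d v' w' a' b' c' e' (XX Q m1 d v w a b c e y) := by
  have k1 : B (d v') v = 0 := by rw [A.sym hv'.1, h1, neg_zero]
  have k2 : B (d w') v = 0 := by rw [A.sym hw'.1, h2, neg_zero]
  have k3 : B (d v') w = 0 := by rw [A.sym hv'.1, h3, neg_zero]
  have k4 : B (d w') w = 0 := by rw [A.sym hw'.1, h4, neg_zero]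
  simp only [XX_apply, map_add, map_sub, map_smul, A.T_comp hv hw hv', A.T_comp hv hw hw', A.T_comp hw hw hv',
    A.T_comp hw hw hw', A.T_comp hv hv hv', A.T_comp hv hv hw', A.T_comp hw hv hv', A.T_comp hw hv hw',
    A.T_comp hv' hw' hv, A.T_comp hv' hw' hw, A.T_comp hw' hw' hv, A.T_comp hw' hw' hw,
    A.T_comp hv' hv' hv, A.T_comp hv' hv' hw, A.T_comp hw' hv' hv, A.T_comp hw' hv' hw,
    h1, h2, h3, h4, k1, k2, k3, k4]
  module

/-- an extension is trivial on the orthogonal vectors of `M` -/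
theorem X_fix {v w u : V} (hv : v ∈ M) (hw : w ∈ M) (hu : u ∈ M)
    (h1 : B (d v) u = 0) (h3 : B (d w) u = 0) (a b c e : K) :
    XX Q m1 d v w a b c e u = u := by
  rw [XX_apply, A.T_M hv hw hu, A.T_M hw hw hu, A.T_M hv hv hu, A.T_M hw hv hu, h1, h3]
  module

/-- **`SL₂(K)` acts through `Ω(V)`.** -/
theorem exists_X {v w : V} (hv : v ∈ M) (hw : w ∈ M) (h : B (d w) v = 1) {a b c e : K} (hdet : a * e - b * c = 1) :
    ∃ g ∈ E Q, ∀ y, g y = XX Q m1 d v w a b c e y := by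
  have hlow : ∀ x : K, ∃ g ∈ E Q, ∀ y, g y = XX Q m1 d v w 1 0 x 1 y := by
    intro x
    obtain ⟨g, hg, h1⟩ := A.exists_tau hw x
    refine ⟨g, hg, fun y => ?_⟩
    rw [h1, XX_apply]; module
  have hup : ∀ x : K, ∃ g ∈ E Q, ∀ y, g y = XX Q m1 d v w 1 x 0 1 y := by
    intro x
    obtain ⟨g, hg, h1⟩ := A.exists_tau hv (-x)
    refine ⟨g, hg, fun y => ?_⟩
    rw [h1, XX_apply]; module
  have hne : ∀ {a b c e : K}, a * e - b * c = 1 → c ≠ 0 → ∃ g ∈ E Q, ∀ y, g y = XX Q m1 d v w a b c e y := by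
    intro a b c e hdet hc
    obtain ⟨g1, hg1, h1⟩ := hup ((a - 1) / c)
    obtain ⟨g2, hg2, h2⟩ := hlow c
    obtain ⟨g3, hg3, h3⟩ := hup ((e - 1) / c)
    refine ⟨g1 * (g2 * g3), (E Q).mul_mem hg1 ((E Q).mul_mem hg2 hg3), fun y => ?_⟩
    change g1 (g2 (g3 y)) = _
    rw [h1, h2, h3, A.X_comp hv hw h, A.X_comp hv hw h]
    refine XX_congr ?_ ?_ ?_ ?_ y
    · field_simp
      ring
    · field_simp
      linear_combination hdet
    · ring
    · field_simp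
      ring
  by_cases hc : c = 0
  · subst hc
    have he : e ≠ 0 := by
      rintro rfl
      simp at hdet
    obtain ⟨g1, hg1, h1⟩ := hne (a := a + b) (b := b) (c := e) (e := e) (by linear_combination hdet) he
    obtain ⟨g2, hg2, h2⟩ := hlow (-1)
    refine ⟨g1 * g2, (E Q).mul_mem hg1 hg2, fun y => ?_⟩
    change g1 (g2 y) = _
    rw [h1, h2, A.X_comp hv hw h]
    refine XX_congr ?_ ?_ ?_ ?_ y <;> ring
  · exact hne hdet hc

/-- the decomposition `W = M ⊕ d M ⊕ m1 M ⊕ m1 d M` -/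
theorem exists_dec {y : V} (hy : y ∈ W) :
    ∃ y0 ∈ M, ∃ y1 ∈ M, ∃ y2 ∈ M, ∃ y3 ∈ M, y = y0 + d y1 + (m1 y2 + m1 (d y3)) := by
  have h2 := A.two
  -- the quaternion part
  have hq : ∀ y ∈ W, n1 y = y → ∃ y0 ∈ M, ∃ y1 ∈ M, y = y0 + d y1 := by
    intro y hy h1
    have hW : ∀ c e : K, c • n2 y + e • m2 y ∈ W := fun c e => W.add_mem (W.smul_mem _ (A.Wn2 _ hy)) (W.smul_mem _ (A.Wm2 _ hy))
    have e1 : n2 (m2 y) = d y := rfl
    have e2 : m2 (n2 y) = - d y := by rw [dd_apply, A.n2m2 _ hy, neg_neg]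
    have hd1 : n2 (d y) = -d (n2 y) := A.n2d hy
    have hd2 : m2 (d y) = -d (m2 y) := A.m2d hy
    have hcc : α • n2 (α • n2 y + β • m2 y) + β • m2 (α • n2 y + β • m2 y) = y := by
      simp only [map_add, map_smul, A.n2n2 _ hy, A.m2m2 _ hy, e1, e2]
      have h3 : α • (α • (-y) + β • d y) + β • (α • (-d y) + β • (-y)) = (-(α * α + β * β)) • y := by module
      rw [h3, A.ab, neg_neg, one_smul]
    refine ⟨(2 : K)⁻¹ • (y + (α • n2 y + β • m2 y)), ?_, -d ((2 : K)⁻¹ • (y - (α • n2 y + β • m2 y))), ?_, ?_⟩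
    · refine ⟨W.smul_mem _ (W.add_mem hy (hW _ _)), ?_, ?_⟩
      · rw [map_smul, map_add, map_add, map_smul, map_smul, A.n1n2 _ hy, A.n1m2 _ hy, h1]
      · calc _ = (2 : K)⁻¹ • ((α • n2 y + β • m2 y)
            + (α • n2 (α • n2 y + β • m2 y) + β • m2 (α • n2 y + β • m2 y))) := by
              simp only [map_add, map_smul]; module
          _ = _ := by rw [hcc]; module
    · refine ⟨W.neg_mem (A.Wd (W.smul_mem _ (W.sub_mem hy (hW _ _)))), ?_, ?_⟩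
      · have hn1u : n1 ((2 : K)⁻¹ • (y - (α • n2 y + β • m2 y))) = (2 : K)⁻¹ • (y - (α • n2 y + β • m2 y)) := by
          simp only [map_smul, map_sub, map_add, A.n1n2 _ hy, A.n1m2 _ hy, h1]
        rw [map_neg, A.n1d (W.smul_mem _ (W.sub_mem hy (hW _ _))), hn1u]
      · have hd3 : ∀ u ∈ W, n2 (d u) = -d (n2 u) := fun u hu => A.n2d hu
        have hd4 : ∀ u ∈ W, m2 (d u) = -d (m2 u) := fun u hu => A.m2d hu
        set u := (2 : K)⁻¹ • (y - (α • n2 y + β • m2 y)) with hu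
        have huW : u ∈ W := W.smul_mem _ (W.sub_mem hy (hW _ _))
        have hcu : α • n2 u + β • m2 u = -u := by
          calc _ = (2 : K)⁻¹ • ((α • n2 y + β • m2 y)
              - (α • n2 (α • n2 y + β • m2 y) + β • m2 (α • n2 y + β • m2 y))) := by
                rw [hu]; simp only [map_sub, map_add, map_smul]; module
            _ = _ := by rw [hcc, hu]; module
        clear_value u
        have h5 : n2 (-d u) = d (n2 u) := by rw [map_neg, hd3 u huW, neg_neg]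
        have h6 : m2 (-d u) = d (m2 u) := by rw [map_neg, hd4 u huW, neg_neg]
        have h7 : d (α • n2 u + β • m2 u) = d (-u) := congrArg _ hcu
        rw [map_add, map_smul, map_smul, map_neg] at h7
        rw [h5, h6, h7]
    · rw [map_neg, A.ddd (W.smul_mem _ (W.sub_mem hy (hW _ _)))]
      have : y = ((2 : K)⁻¹ * 2) • y := by rw [inv_mul_cancel₀ h2, one_smul]
      nth_rewrite 1 [this]
      module
  have hn : n1 y ∈ W := A.Wn1 _ hy
  obtain ⟨y0, hy0, y1, hy1, e1⟩ := hq ((2 : K)⁻¹ • (y + n1 y)) (W.smul_mem _ (W.add_mem hy hn))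
    (by rw [map_smul, map_add, A.n1n1 _ hy, add_comm])
  have hs : y - n1 y ∈ W := W.sub_mem hy hn
  obtain ⟨y2, hy2, y3, hy3, e2⟩ := hq ((2 : K)⁻¹ • m1 (y - n1 y)) (W.smul_mem _ (A.Wm1 _ hs))
    (by rw [map_smul, A.n1m1 _ hs, map_sub, A.n1n1 _ hy, ← map_neg, neg_sub])
  refine ⟨y0, hy0, y1, hy1, y2, hy2, y3, hy3, ?_⟩
  rw [← e1, ← map_add, ← e2, map_smul, A.m1m1 _ hs]
  have : y = ((2 : K)⁻¹ * 2) • y := by rw [inv_mul_cancel₀ h2, one_smul]
  nth_rewrite 1 [this]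
  module

/-- the alternating form of `M` is nondegenerate -/
theorem exists_pair (hW : ∀ y ∈ W, (∀ u ∈ W, B y u = 0) → y = 0) {v : V} (hv : v ∈ M) (h0 : v ≠ 0) :
    ∃ w ∈ M, B (d w) v = 1 := by
  have h1 : ∃ u ∈ W, B v u ≠ 0 := by
    by_contra hcon
    push Not at hcon
    exact h0 (hW v hv.1 hcon)
  obtain ⟨u, hu, hne⟩ := h1
  obtain ⟨y0, hy0, y1, hy1, y2, hy2, y3, hy3, rfl⟩ := A.exists_dec hu
  rw [polar_add_right, polar_add_right, polar_add_right, A.Bvw hv hy0, A.Bm hv.1 hy2.1 hv.2.1 hy2.2.1,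
    A.Bm hv.1 (A.Wd hy3.1) hv.2.1 (A.n1dv hy3), zero_add, add_zero, add_zero] at hne
  refine ⟨(B v (d y1))⁻¹ • y1, (M).smul_mem _ hy1, ?_⟩
  rw [map_smul, polar_smul_left, polar_comm Q (d y1) v, smul_eq_mul, inv_mul_cancel₀ hne]

end

end AO

end Cfsg.Agent.H14.C3
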