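import Cfsg.Agent.H415.C3.Kit

/-!
# S1920, case B, `POmega`: symplectic bases of `2^{1+4}` (helper14)

* `Bas R Z n1 m1 n2 m2` : `R : N →* A` (a ring), the pairs `(n1, m1)`, `(n2, m2)` anticommute in `A`, the rest commutes,
  and `N = ⟨n1, m1, n2, m2, Z⟩`;
* `exists_arf` : if all squares are `±1` in `A`, the basis can be chosen with all squares `1` (Arf invariant zero) or with
  squares `1, 1, -1, -1` (Arf invariant one);
* `Kit.exists_basis` : four elements of `N0` of this kind.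
-/

set_option autoImplicit false
set_option linter.unusedVariables false
set_option linter.unusedSimpArgs false

open Subgroup

namespace Cfsg.Agent.H14.C3

open Cfsg.Agent.H415.C3

section abs

variable {N : Type*} [Group N] {A : Type*} [Ring A]

/-- a symplectic basis of rank four -/
structure Bas (R : N →* A) (Z : Subgroup N) (n1 m1 n2 m2 : N) : Prop where
  ac1 : R n1 * R m1 = -(R m1 * R n1)
  ac2 : R n2 * R m2 = -(R m2 * R n2)
  c1 : R n1 * R n2 = R n2 * R n1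
  c2 : R n1 * R m2 = R m2 * R n1
  c3 : R m1 * R n2 = R n2 * R m1
  c4 : R m1 * R m2 = R m2 * R m1
  gen : ∀ S : Subgroup N, n1 ∈ S → m1 ∈ S → n2 ∈ S → m2 ∈ S → Z ≤ S → S = ⊤

namespace Bas

variable {R : N →* A} {Z : Subgroup N} {n1 m1 n2 m2 : N}

/-- swap inside the first pair -/
theorem swap1 (h : Bas R Z n1 m1 n2 m2) : Bas R Z m1 n1 n2 m2 where
  ac1 := by rw [h.ac1, neg_neg]
  ac2 := h.ac2
  c1 := h.c3
  c2 := h.c4
  c3 := h.c1
  c4 := h.c2
  gen S h1 h2 h3 h4 := h.gen S h2 h1 h3 h4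

/-- swap the pairs -/
theorem swap (h : Bas R Z n1 m1 n2 m2) : Bas R Z n2 m2 n1 m1 where
  ac1 := h.ac2
  ac2 := h.ac1
  c1 := h.c1.symm
  c2 := h.c3.symm
  c3 := h.c2.symm
  c4 := h.c4.symm
  gen S h1 h2 h3 h4 := h.gen S h3 h4 h1 h2

/-- replace `m1` by `n1 m1` -/
theorem mul1 (h : Bas R Z n1 m1 n2 m2) : Bas R Z n1 (n1 * m1) n2 m2 where
  ac1 := by
    rw [map_mul, mul_assoc (R n1) (R m1) (R n1), ← mul_neg, ← h.ac1]
  ac2 := h.ac2
  c1 := h.c1
  c2 := h.c2
  c3 := by rw [map_mul, mul_assoc, h.c3, ← mul_assoc, h.c1, mul_assoc]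
  c4 := by rw [map_mul, mul_assoc, h.c4, ← mul_assoc, h.c2, mul_assoc]
  gen S h1 h2 h3 h4 := h.gen S h1 (by
    have := mul_mem (inv_mem h1) h2
    rwa [inv_mul_cancel_left] at this) h3 h4

/-- mix the pairs -/
theorem mix (h : Bas R Z n1 m1 n2 m2) : Bas R Z (n1 * n2) (m1 * n2) n2 (m2 * n1 * m1) := by
  have e1 : R m1 * R n1 = -(R n1 * R m1) := by rw [h.ac1, neg_neg]
  have e2 : R m2 * R n2 = -(R n2 * R m2) := by rw [h.ac2, neg_neg]
  have e3 := h.c1.symm
  have e4 := h.c2.symm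
  have e5 := h.c3.symm
  have e6 := h.c4.symm
  have f1 : ∀ x, R m1 * (R n1 * x) = -(R n1 * (R m1 * x)) := fun x => by rw [← mul_assoc, e1, neg_mul, mul_assoc]
  have f2 : ∀ x, R m2 * (R n2 * x) = -(R n2 * (R m2 * x)) := fun x => by rw [← mul_assoc, e2, neg_mul, mul_assoc]
  have f3 : ∀ x, R n2 * (R n1 * x) = R n1 * (R n2 * x) := fun x => by rw [← mul_assoc, e3, mul_assoc]
  have f4 : ∀ x, R m2 * (R n1 * x) = R n1 * (R m2 * x) := fun x => by rw [← mul_assoc, e4, mul_assoc]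
  have f5 : ∀ x, R n2 * (R m1 * x) = R m1 * (R n2 * x) := fun x => by rw [← mul_assoc, e5, mul_assoc]
  have f6 : ∀ x, R m2 * (R m1 * x) = R m1 * (R m2 * x) := fun x => by rw [← mul_assoc, e6, mul_assoc]
  refine ⟨?_, ?_, ?_, ?_, ?_, ?_, ?_⟩
  · simp only [map_mul, mul_assoc, e1, e2, e3, e4, e5, e6, f1, f2, f3, f4, f5, f6, mul_neg, neg_mul, neg_neg]
  · simp only [map_mul, mul_assoc, e1, e2, e3, e4, e5, e6, f1, f2, f3, f4, f5, f6, mul_neg, neg_mul, neg_neg]
  · simp only [map_mul, mul_assoc, e1, e2, e3, e4, e5, e6, f1, f2, f3, f4, f5, f6, mul_neg, neg_mul, neg_neg]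
  · simp only [map_mul, mul_assoc, e1, e2, e3, e4, e5, e6, f1, f2, f3, f4, f5, f6, mul_neg, neg_mul, neg_neg]
  · simp only [map_mul, mul_assoc, e1, e2, e3, e4, e5, e6, f1, f2, f3, f4, f5, f6, mul_neg, neg_mul, neg_neg]
  · simp only [map_mul, mul_assoc, e1, e2, e3, e4, e5, e6, f1, f2, f3, f4, f5, f6, mul_neg, neg_mul, neg_neg]
  · intro S h1 h2 h3 h4 h5
    have g1 : n1 ∈ S := by
      have := mul_mem h1 (inv_mem h3)
      rwa [mul_inv_cancel_right] at this
    have g2 : m1 ∈ S := by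
      have := mul_mem h2 (inv_mem h3)
      rwa [mul_inv_cancel_right] at this
    refine h.gen S g1 g2 h3 ?_ h5
    have := mul_mem (mul_mem h4 (inv_mem g2)) (inv_mem g1)
    rwa [mul_inv_cancel_right, mul_inv_cancel_right] at this

/-- normalise the first pair -/
theorem norm1 (h : Bas R Z n1 m1 n2 m2) (hsq : ∀ n, R n * R n = 1 ∨ R n * R n = -1) :
    ∃ n m, Bas R Z n m n2 m2 ∧ ((R n * R n = 1 ∧ R m * R m = 1) ∨ (R n * R n = -1 ∧ R m * R m = -1)) := by
  have key : ∀ n m, R n * R m = -(R m * R n) → R (n * m) * R (n * m) = -(R n * R n * (R m * R m)) := by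
    intro n m hnm
    have e : R m * R n = -(R n * R m) := by rw [hnm, neg_neg]
    calc R (n * m) * R (n * m) = R n * (R m * R n) * R m := by rw [map_mul]; noncomm_ring
      _ = _ := by rw [e]; noncomm_ring
  rcases hsq n1 with h1 | h1 <;> rcases hsq m1 with h2 | h2
  · exact ⟨n1, m1, h, Or.inl ⟨h1, h2⟩⟩
  · refine ⟨n1, n1 * m1, h.mul1, Or.inl ⟨h1, ?_⟩⟩
    rw [key _ _ h.ac1, h1, h2]; simp
  · refine ⟨m1, m1 * n1, h.swap1.mul1, Or.inl ⟨h2, ?_⟩⟩
    rw [key _ _ h.swap1.ac1, h1, h2]; simp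
  · exact ⟨n1, m1, h, Or.inr ⟨h1, h2⟩⟩

/-- **the Arf invariant** -/
theorem exists_arf (h : Bas R Z n1 m1 n2 m2) (hsq : ∀ n, R n * R n = 1 ∨ R n * R n = -1) :
    ∃ a b c e, Bas R Z a b c e ∧ R a * R a = 1 ∧ R b * R b = 1 ∧
      ((R c * R c = 1 ∧ R e * R e = 1) ∨ (R c * R c = -1 ∧ R e * R e = -1)) := by
  obtain ⟨n, m, h1, hs1⟩ := h.norm1 hsq
  obtain ⟨c, e, h2, hs2⟩ := h1.swap.norm1 hsq
  -- `h2 : Bas c e n m`
  rcases hs1 with ⟨p1, p2⟩ | ⟨p1, p2⟩
  · exact ⟨n, m, c, e, h2.swap, p1, p2, hs2⟩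
  rcases hs2 with ⟨q1, q2⟩ | ⟨q1, q2⟩
  · exact ⟨c, e, n, m, h2, q1, q2, Or.inr ⟨p1, p2⟩⟩
  -- both quaternion
  have h3 := h2.swap.mix
  -- the first pair `(n c, m c)`, the second pair `(c, e n m)`
  have e1 : R (n * c) * R (n * c) = 1 := by
    calc _ = R n * (R c * R n) * R c := by rw [map_mul]; noncomm_ring
      _ = (R n * R n) * (R c * R c) := by rw [h2.c1]; noncomm_ring
      _ = 1 := by rw [p1, q1]; simp
  have e2 : R (m * c) * R (m * c) = 1 := by
    calc _ = R m * (R c * R m) * R c := by rw [map_mul]; noncomm_ring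
      _ = (R m * R m) * (R c * R c) := by rw [h2.c2]; noncomm_ring
      _ = 1 := by rw [p2, q1]; simp
  have e3 : R (e * n * m) * R (e * n * m) = 1 := by
    have k1 : R m * R n = -(R n * R m) := by rw [h2.ac2, neg_neg]
    calc _ = R e * (R n * (R m * R e)) * (R n * R m) := by rw [map_mul, map_mul]; noncomm_ring
      _ = R e * ((R n * R e) * R m) * (R n * R m) := by rw [← h2.c4]; noncomm_ring
      _ = (R e * R e) * (R n * (R m * R n) * R m) := by rw [← h2.c3]; noncomm_ring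
      _ = -((R e * R e) * ((R n * R n) * (R m * R m))) := by rw [k1]; noncomm_ring
      _ = 1 := by rw [q2, p1, p2]; simp
  -- turn the second pair into a dihedral one
  obtain ⟨c', e', h4, hs4⟩ := h3.swap.norm1 hsq
  refine ⟨n * c, m * c, c', e', h4.swap, e1, e2, hs4⟩

end Bas

end abs

section kit

variable {G : Type*} [Group G] {N0 A E : Subgroup G} {z s x r : G} {ψ : ↥A →* Equiv.Perm (Fin 6)}

open Classical in
/-- the commutator with `g` -/
noncomputable def chi (T : Kit N0 A E z s x r ψ) (g : G) (hg : g ∈ N0) : ↥N0 →* ℤˣ where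
  toFun n := if (n : G) * g = g * n then 1 else -1
  map_one' := by rw [if_pos]; rw [Subgroup.coe_one, one_mul, mul_one]
  map_mul' := by
    intro n m
    have zc : ∀ y ∈ N0, y * z = z * y := fun y hy => T.z_comm (T.N_A hy)
    have ne : ∀ y : G, z * y ≠ y := by
      intro y h
      exact T.z_ne (by simpa using h)
    have neg : ∀ y : ↥N0, (y : G) * g = z * (g * y) → ¬ (y : G) * g = g * y := by
      intro y h1 h2
      rw [h1] at h2
      exact ne _ h2
    rcases T.comm n n.2 g hg with h1 | h1 <;> rcases T.comm m m.2 g hg with h2 | h2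
    · have h3 : ((n * m : ↥N0) : G) * g = g * (n * m : ↥N0) := by
        rw [Subgroup.coe_mul, mul_assoc, h2, ← mul_assoc, h1, mul_assoc]
      rw [if_pos h1, if_pos h2, if_pos h3, one_mul]
    · have h3 : ((n * m : ↥N0) : G) * g = z * (g * (n * m : ↥N0)) := by
        rw [Subgroup.coe_mul, mul_assoc, h2, ← mul_assoc, zc n n.2, mul_assoc, ← mul_assoc (n : G), h1, mul_assoc]
      rw [if_pos h1, if_neg (neg m h2), if_neg (neg _ h3), one_mul]
    · have h3 : ((n * m : ↥N0) : G) * g = z * (g * (n * m : ↥N0)) := by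
        rw [Subgroup.coe_mul, mul_assoc, h2, ← mul_assoc, h1, mul_assoc, mul_assoc]
      rw [if_neg (neg n h1), if_pos h2, if_neg (neg _ h3), mul_one]
    · have h3 : ((n * m : ↥N0) : G) * g = g * (n * m : ↥N0) := by
        rw [Subgroup.coe_mul, mul_assoc, h2, ← mul_assoc, zc n n.2, mul_assoc, ← mul_assoc (n : G), h1, mul_assoc,
          mul_assoc, ← mul_assoc z, T.z_sq, one_mul]
      rw [if_neg (neg n h1), if_neg (neg m h2), if_pos h3]
      decide

open Classical in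
theorem chi_one (T : Kit N0 A E z s x r ψ) {g : G} (hg : g ∈ N0) {n : ↥N0} (h : (n : G) * g = g * n) :
    chi T g hg n = 1 := if_pos h

open Classical in
theorem chi_neg (T : Kit N0 A E z s x r ψ) {g : G} (hg : g ∈ N0) {n : ↥N0} (h : (n : G) * g = z * (g * n)) :
    chi T g hg n = -1 := by
  refine if_neg fun h2 => ?_
  rw [h] at h2
  exact T.z_ne (by simpa using h2)

open Classical in
theorem of_chi (T : Kit N0 A E z s x r ψ) {g : G} (hg : g ∈ N0) {n : ↥N0} (h : chi T g hg n = 1) :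
    (n : G) * g = g * n := by
  by_contra h2
  have h3 : chi T g hg n = -1 := if_neg h2
  rw [h] at h3
  exact absurd h3 (by decide)

theorem order_s (T : Kit N0 A E z s x r ψ) : Nat.card (zpowers s) = 4 := by
  have f2 : Fact (Nat.Prime 2) := ⟨Nat.prime_two⟩
  rw [Nat.card_zpowers, show (4 : ℕ) = 2 ^ (1 + 1) by norm_num]
  refine orderOf_eq_prime_pow ?_ ?_
  · rw [pow_one, pow_two, T.s_sq]
    exact T.z_ne
  · norm_num
    exact T.s_four

theorem fix_comm (T : Kit N0 A E z s x r ψ) {p q y : G} (hp : p ∈ N0) (hq : q ∈ N0) (hy : y ∈ N0)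
    (h : p * q = z * (q * p)) : ∃ y', (y' = y ∨ y' = y * q) ∧ y' * p = p * y' := by
  have zc : ∀ y ∈ N0, y * z = z * y := fun y hy => T.z_comm (T.N_A hy)
  rcases T.comm y hy p hp with h1 | h1
  · exact ⟨y, Or.inl rfl, h1⟩
  · refine ⟨y * q, Or.inr rfl, ?_⟩
    have h2 : q * p = z * (p * q) := by rw [h, ← mul_assoc, T.z_sq, one_mul]
    rw [mul_assoc, h2, ← mul_assoc, zc y hy, mul_assoc, ← mul_assoc y, h1, mul_assoc, ← mul_assoc z, T.z_sq, one_mul,
      mul_assoc]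

/-- **a symplectic basis of `N0`** -/
theorem exists_basis [Finite G] (T : Kit N0 A E z s x r ψ) :
    ∃ a1 ∈ N0, ∃ b1 ∈ N0, ∃ a2 ∈ N0, ∃ b2 ∈ N0, a1 * b1 = z * (b1 * a1) ∧ a2 * b2 = z * (b2 * a2) ∧
      a1 * a2 = a2 * a1 ∧ a1 * b2 = b2 * a1 ∧ b1 * a2 = a2 * b1 ∧ b1 * b2 = b2 * b1 ∧
      ∀ n ∈ N0, n * a1 = a1 * n → n * b1 = b1 * n → n * a2 = a2 * n → n * b2 = b2 * n → n ∈ zpowers s := by
  have hu : Nat.card ℤˣ = 2 := by rw [Nat.card_eq_fintype_card, Fintype.card_units_int]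
  have hos := order_s T
  -- the first pair
  obtain ⟨a1, ha1, b1, hb1, h1⟩ : ∃ a ∈ N0, ∃ b ∈ N0, a * b = z * (b * a) := by
    by_contra hcon
    push Not at hcon
    have h1 : N0 ≤ zpowers s := by
      intro n hn
      refine T.cen n hn fun m hm => ?_
      rcases T.comm n hn m hm with h | h
      · exact h
      · exact absurd h (hcon n hn m hm)
    have h2 := Subgroup.card_dvd_of_le h1
    rw [T.card, hos] at h2
    norm_num at h2
  have h1' : b1 * a1 = z * (a1 * b1) := by rw [h1, ← mul_assoc, T.z_sq, one_mul]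
  -- an element of the centraliser outside `⟨s⟩`
  obtain ⟨a2, ha2, h2, h3, h4⟩ : ∃ n ∈ N0, n * a1 = a1 * n ∧ n * b1 = b1 * n ∧ n ∉ zpowers s := by
    by_contra hcon
    push Not at hcon
    let f : ↥N0 →* ℤˣ × ℤˣ := (chi T a1 ha1).prod (chi T b1 hb1)
    have h2 : f.ker.map N0.subtype ≤ zpowers s := by
      rintro _ ⟨n, hn, rfl⟩
      have hn' : f n = 1 := hn
      exact hcon n n.2 (of_chi T ha1 (congrArg Prod.fst hn')) (of_chi T hb1 (congrArg Prod.snd hn'))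
    have h3 := Subgroup.card_le_of_le h2
    rw [Subgroup.card_map_of_injective N0.subtype_injective, hos] at h3
    have h4 : Nat.card f.ker * f.ker.index = 64 := by rw [Subgroup.card_mul_index, T.card]
    rw [Subgroup.index_ker] at h4
    have h5 : Nat.card f.range ≤ 4 := by
      have := Subgroup.card_le_card_group f.range
      rwa [Nat.card_prod, hu] at this
    have h6 : Nat.card f.ker * Nat.card f.range ≤ 4 * 4 := Nat.mul_le_mul h3 h5
    rw [h4] at h6
    norm_num at h6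
  obtain ⟨m, hm, h5⟩ : ∃ m ∈ N0, a2 * m = z * (m * a2) := by
    by_contra hcon
    push Not at hcon
    apply h4
    refine T.cen a2 ha2 fun m hm => ?_
    rcases T.comm a2 ha2 m hm with h | h
    · exact h
    · exact absurd h (hcon m hm)
  have ac : ∀ y q : G, q ∈ N0 → a2 * y = z * (y * a2) → a2 * q = q * a2 → a2 * (y * q) = z * (y * q * a2) := by
    intro y q hq h6 h7
    rw [← mul_assoc, h6, mul_assoc, mul_assoc, h7, mul_assoc]
  -- correct `m`
  obtain ⟨m1, hm1, h6⟩ := fix_comm T ha1 hb1 hm h1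
  have m1N : m1 ∈ N0 ∧ a2 * m1 = z * (m1 * a2) := by
    rcases hm1 with rfl | rfl
    · exact ⟨hm, h5⟩
    · exact ⟨mul_mem hm hb1, ac _ _ hb1 h5 h3⟩
  obtain ⟨b2, hb2, h7⟩ := fix_comm T hb1 ha1 m1N.1 h1'
  have b2N : b2 ∈ N0 ∧ a2 * b2 = z * (b2 * a2) ∧ b2 * a1 = a1 * b2 := by
    rcases hb2 with rfl | rfl
    · exact ⟨m1N.1, m1N.2, h6⟩
    · exact ⟨mul_mem m1N.1 ha1, ac _ _ ha1 m1N.2 h2, by rw [← mul_assoc, ← h6, mul_assoc]⟩
  refine ⟨a1, ha1, b1, hb1, a2, ha2, b2, b2N.1, h1, b2N.2.1, h2.symm, b2N.2.2.symm, h3.symm, h7.symm, ?_⟩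
  have h2' : b2 * a2 = z * (a2 * b2) := by rw [b2N.2.1, ← mul_assoc, T.z_sq, one_mul]
  -- counting
  let f : ↥N0 →* ℤˣ × ℤˣ × ℤˣ × ℤˣ :=
    (chi T a1 ha1).prod ((chi T b1 hb1).prod ((chi T a2 ha2).prod (chi T b2 b2N.1)))
  have f1 : f ⟨b1, hb1⟩ = (-1, 1, 1, 1) := by
    refine Prod.ext ?_ (Prod.ext ?_ (Prod.ext ?_ ?_))
    · exact chi_neg T ha1 h1'
    · exact chi_one T hb1 rfl
    · exact chi_one T ha2 h3.symm
    · exact chi_one T b2N.1 h7.symm
  have f2 : f ⟨a1, ha1⟩ = (1, -1, 1, 1) := by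
    refine Prod.ext ?_ (Prod.ext ?_ (Prod.ext ?_ ?_))
    · exact chi_one T ha1 rfl
    · exact chi_neg T hb1 h1
    · exact chi_one T ha2 h2.symm
    · exact chi_one T b2N.1 b2N.2.2.symm
  have f3 : f ⟨b2, b2N.1⟩ = (1, 1, -1, 1) := by
    refine Prod.ext ?_ (Prod.ext ?_ (Prod.ext ?_ ?_))
    · exact chi_one T ha1 b2N.2.2
    · exact chi_one T hb1 h7
    · exact chi_neg T ha2 h2'
    · exact chi_one T b2N.1 rfl
  have f4 : f ⟨a2, ha2⟩ = (1, 1, 1, -1) := by
    refine Prod.ext ?_ (Prod.ext ?_ (Prod.ext ?_ ?_))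
    · exact chi_one T ha1 h2
    · exact chi_one T hb1 h3
    · exact chi_one T ha2 rfl
    · exact chi_neg T b2N.1 b2N.2.1
  have hsurj : f.range = ⊤ := by
    rw [eq_top_iff]
    rintro ⟨x1, x2, x3, x4⟩ -
    have e1 : ((x1, 1, 1, 1) : ℤˣ × ℤˣ × ℤˣ × ℤˣ) ∈ f.range := by
      rcases Int.units_eq_one_or x1 with rfl | rfl
      · exact one_mem _
      · exact ⟨_, f1⟩
    have e2 : ((1, x2, 1, 1) : ℤˣ × ℤˣ × ℤˣ × ℤˣ) ∈ f.range := by
      rcases Int.units_eq_one_or x2 with rfl | rfl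
      · exact one_mem _
      · exact ⟨_, f2⟩
    have e3 : ((1, 1, x3, 1) : ℤˣ × ℤˣ × ℤˣ × ℤˣ) ∈ f.range := by
      rcases Int.units_eq_one_or x3 with rfl | rfl
      · exact one_mem _
      · exact ⟨_, f3⟩
    have e4 : ((1, 1, 1, x4) : ℤˣ × ℤˣ × ℤˣ × ℤˣ) ∈ f.range := by
      rcases Int.units_eq_one_or x4 with rfl | rfl
      · exact one_mem _
      · exact ⟨_, f4⟩
    have e5 := mul_mem (mul_mem (mul_mem e1 e2) e3) e4
    simpa using e5
  have hker : Nat.card f.ker = 4 := by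
    have h8 : Nat.card f.ker * f.ker.index = 64 := by rw [Subgroup.card_mul_index, T.card]
    rw [Subgroup.index_ker, hsurj, Subgroup.card_top, Nat.card_prod, Nat.card_prod, Nat.card_prod, hu] at h8
    omega
  have hle : zpowers s ≤ f.ker.map N0.subtype := by
    rw [zpowers_le]
    refine ⟨⟨s, T.sN⟩, ?_, rfl⟩
    change f ⟨s, T.sN⟩ = 1
    refine Prod.ext ?_ (Prod.ext ?_ (Prod.ext ?_ ?_))
    · exact chi_one T ha1 (T.s_cen _ ha1).symm
    · exact chi_one T hb1 (T.s_cen _ hb1).symm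
    · exact chi_one T ha2 (T.s_cen _ ha2).symm
    · exact chi_one T b2N.1 (T.s_cen _ b2N.1).symm
  have heq : zpowers s = f.ker.map N0.subtype := by
    refine Subgroup.eq_of_le_of_card_ge hle ?_
    rw [Subgroup.card_map_of_injective N0.subtype_injective, hker, hos]
  intro n hn k1 k2 k3 k4
  rw [heq]
  refine ⟨⟨n, hn⟩, ?_, rfl⟩
  change f ⟨n, hn⟩ = 1
  refine Prod.ext ?_ (Prod.ext ?_ (Prod.ext ?_ ?_))
  · exact chi_one T ha1 k1
  · exact chi_one T hb1 k2
  · exact chi_one T ha2 k3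
  · exact chi_one T b2N.1 k4

end kit

end Cfsg.Agent.H14.C3
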