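import Cfsg.Agent.H14.C3.ArfAlg
import Cfsg.Agent.H14.C3.ArfTools
import Cfsg.Agent.H415.C3.LKitOne
import Cfsg.Agent.H402.PSL2Cls

/-!
# S1920, case B, `POmega`, Arf invariant one (helper14)

`arf_one` : in the situation `rho = 0`, `l = 1` of the plan, if `Nh` acts on `Vr = ker (sh² - 1)` as `⟨±1, sh⟩ (D₈ ∘ Q₈)`,
then `Eh` is trivial on `Vr`.
-/

set_option autoImplicit false
set_option linter.unusedVariables false

open Subgroup

namespace Cfsg.Agent.H14.C3

open Cfsg.Agent.H415.C3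
open Cfsg.Agent.LieClassical.OrthCore Cfsg.Agent.LieClassical.OrthTrans QuadraticMap

variable {K : Type*} [Field K] {V : Type*} [AddCommGroup V] [Module K V]

/-- `ker (s² - 1)` -/
def Wr (s : V ≃ₗ[K] V) : Submodule K V where
  carrier := {v | s (s v) = v}
  zero_mem' := by simp
  add_mem' := by
    intro v w hv hw
    have hv' : s (s v) = v := hv
    have hw' : s (s w) = w := hw
    change s (s (v + w)) = v + w
    rw [map_add, map_add, hv', hw']
  smul_mem' := by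
    intro c v hv
    have hv' : s (s v) = v := hv
    change s (s (c • v)) = c • v
    rw [map_smul, map_smul, hv']

theorem mem_Wr {s : V ≃ₗ[K] V} {v : V} : v ∈ Wr s ↔ s (s v) = v := Iff.rfl

/-- the elements commuting with a linear map -/
def comS (X : V →ₗ[K] V) : Subgroup (V ≃ₗ[K] V) where
  carrier := {g | ∀ y, X (g y) = g (X y)}
  one_mem' := fun y => rfl
  mul_mem' := by
    intro a b ha hb y
    change X (a (b y)) = a (b (X y))
    rw [ha, hb]
  inv_mem' := by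
    intro a ha y
    have h := ha (a⁻¹ y)
    have h2 : a (a⁻¹ y) = y := LinearEquiv.apply_symm_apply a y
    rw [h2] at h
    rw [h]
    exact (LinearEquiv.symm_apply_apply a _).symm

/-- the configuration with `s` : `V = Vr ⊥ Vc` -/
structure SO (Q : QuadraticForm K V) (s n1 m1 n2 m2 : V ≃ₗ[K] V) (α β : K) (Nh : Subgroup (V ≃ₗ[K] V)) : Prop
    extends AO Q (Wr s) n1 m1 n2 m2 α β where
  nd : Nondeg Q
  Os : s ∈ O Q
  s4 : ∀ v, s (s (s (s v))) = v
  NO : Nh ≤ O Q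
  Ns : ∀ n ∈ Nh, ∀ v, n (s v) = s (n v)
  N1 : n1 ∈ Nh
  M1 : m1 ∈ Nh
  N2 : n2 ∈ Nh
  M2 : m2 ∈ Nh
  gen : ∀ S : Subgroup (V ≃ₗ[K] V), n1 ∈ S → m1 ∈ S → n2 ∈ S → m2 ∈ S → s ∈ S →
    (∀ g ∈ Nh, ((∀ v, s (s v) = v → g v = v) ∨ (∀ v, s (s v) = v → g v = -v)) → g ∈ S) → Nh ≤ S

namespace SO

variable {Q : QuadraticForm K V} {s n1 m1 n2 m2 : V ≃ₗ[K] V} {α β : K} {Nh : Subgroup (V ≃ₗ[K] V)}

local notation "B" => polar Q
local notation "d" => dd n2 m2
local notation "M" => Mo (Wr s) n1 n2 m2 α β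

section
variable (A : SO Q s n1 m1 n2 m2 α β Nh)
include A

theorem dec (y : V) : ∃ a b : V, y = a + b ∧ s (s a) = a ∧ s (s b) = -b := by
  have h2 := A.two
  refine ⟨(2 : K)⁻¹ • (y + s (s y)), (2 : K)⁻¹ • (y - s (s y)), ?_, ?_, ?_⟩
  · have : y = ((2 : K)⁻¹ * 2) • y := by rw [inv_mul_cancel₀ h2, one_smul]
    nth_rewrite 1 [this]
    module
  · simp only [map_smul, map_add, A.s4]; rw [add_comm]
  · simp only [map_smul, map_sub, A.s4]; module

theorem orth {a b : V} (ha : s (s a) = a) (hb : s (s b) = -b) : B a b = 0 := by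
  apply A.half
  calc B a b = B (s (s a)) (s (s b)) := by rw [polar_map A.Os, polar_map A.Os]
    _ = - B a b := by rw [ha, hb, polar_neg_right]

theorem ndr : ∀ y ∈ Wr s, (∀ u ∈ Wr s, B y u = 0) → y = 0 := by
  intro y hy h
  refine A.nd y fun u => ?_
  obtain ⟨a, b, rfl, ha, hb⟩ := A.dec u
  rw [polar_add_right, h a ha, A.orth hy hb, add_zero]

/-- on `Vc` the element `s` is not a scalar -/
theorem not_sc {c : K} {b : V} (hb : s (s b) = -b) (h : ∀ v, s (s v) = -v → s v = c • v) : b = 0 := by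
  refine A.nd b fun u => ?_
  obtain ⟨a', b', rfl, ha, hb'⟩ := A.dec u
  rw [polar_add_right, polar_comm, A.orth ha hb, zero_add]
  -- `B b b' = B (s b) (s b') = c² B b b' = - B b b'`
  by_cases h0 : b = 0
  · rw [h0, polar_zero_left]
  have hc : c * c = -1 := by
    have h1 : s (s b) = (c * c) • b := by rw [h b hb, map_smul, h b hb, smul_smul]
    rw [hb] at h1
    have h2 : (c * c + 1) • b = 0 := by rw [add_smul, ← h1, one_smul, neg_add_cancel]
    rcases smul_eq_zero.1 h2 with h3 | h3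
    · linear_combination h3
    · exact absurd h3 h0
  apply A.half
  calc B b b' = B (s b) (s b') := (polar_map A.Os _ _).symm
    _ = (c * c) * B b b' := by rw [h b hb, h b' hb', polar_smul_left, polar_smul_right, smul_eq_mul, smul_eq_mul, mul_assoc]
    _ = - B b b' := by rw [hc, neg_one_mul]

theorem sd (u : V) : s (d u) = d (s u) := by
  rw [dd_apply, dd_apply, ← A.Ns _ A.N2, ← A.Ns _ A.M2]

theorem sM {v : V} (hv : v ∈ M) : s v ∈ M := by
  obtain ⟨h1, h2, h3⟩ := hv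
  refine ⟨?_, ?_, ?_⟩
  · rw [mem_Wr] at h1 ⊢
    rw [h1]
  · rw [A.Ns _ A.N1, h2]
  · have h4 := congrArg s h3
    rw [map_add, map_smul, map_smul] at h4
    rw [A.Ns _ A.N2, A.Ns _ A.M2, h4]

/-- elements commuting with `Nh` preserve `M` -/
theorem eM {e : V ≃ₗ[K] V} (he : ∀ n ∈ Nh, e * n = n * e) (hes : e * s = s * e) {v : V} (hv : v ∈ M) : e v ∈ M := by
  have h : ∀ n ∈ Nh, ∀ y, e (n y) = n (e y) := fun n hn y => congrArg (fun f : V ≃ₗ[K] V => f y) (he n hn)
  have h' : ∀ y, e (s y) = s (e y) := fun y => congrArg (fun f : V ≃ₗ[K] V => f y) hes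
  obtain ⟨h1, h2, h3⟩ := hv
  refine ⟨?_, ?_, ?_⟩
  · rw [mem_Wr] at h1 ⊢
    rw [← h', ← h', h1]
  · rw [← h _ A.N1, h2]
  · have h4 := congrArg e h3
    rw [map_add, map_smul, map_smul] at h4
    rw [← h _ A.N2, ← h _ A.M2, h4]

/-- the extensions commute with `Nh` -/
theorem X_N {v w : V} {ε : K} (hε : ε * ε = 1) (hv : v ∈ M) (hw : w ∈ M) (h1 : s v = ε • v) (h2 : s w = ε • w)
    (a b c e : K) : Nh ≤ comS (XX Q m1 d v w a b c e) := by
  have hm : ∀ v' : V, (v' = v ∨ v' = w) → v' ∈ M := by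
    rintro v' (rfl | rfl) <;> assumption
  have hs' : ∀ v' : V, (v' = v ∨ v' = w) → s v' = ε • v' := by
    rintro v' (rfl | rfl) <;> assumption
  refine A.gen _ ?_ ?_ ?_ ?_ ?_ ?_
  · exact X_comm (fun v' w' k1 k2 => A.T_n1 (hm v' k1) (hm w' k2)) a b c e
  · exact X_comm (fun v' w' k1 k2 => A.T_m1 (hm v' k1) (hm w' k2)) a b c e
  · exact X_comm (fun v' w' k1 k2 => A.T_n2 (hm v' k1) (hm w' k2)) a b c e
  · exact X_comm (fun v' w' k1 k2 => A.T_m2 (hm v' k1) (hm w' k2)) a b c e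
  · exact X_comm (fun v' w' k1 k2 => A.T_eps hε A.Os (fun u _ => (A.Ns _ A.M1 u).symm) (fun u _ => A.sd u)
      (hm v' k1) (hm w' k2) (hs' v' k1) (hs' w' k2)) a b c e
  · intro g hg hg'
    have hη : ∃ η : K, η * η = 1 ∧ ∀ v ∈ Wr s, g v = η • v := by
      rcases hg' with h | h
      · exact ⟨1, one_mul 1, fun v hv => by rw [h v hv, one_smul]⟩
      · exact ⟨-1, by ring, fun v hv => by rw [h v hv, neg_one_smul]⟩
    obtain ⟨η, hη1, hη2⟩ := hη
    exact X_comm (fun v' w' k1 k2 => A.T_eps hη1 (A.NO hg)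
      (fun u hu => by rw [hη2 _ (A.Wm1 _ hu), hη2 _ hu, map_smul])
      (fun u hu => by rw [hη2 _ (A.Wd hu), hη2 _ hu, map_smul])
      (hm v' k1) (hm w' k2) (hη2 _ (hm v' k1).1) (hη2 _ (hm w' k2).1)) a b c e

/-- hyperbolic pairs -/
theorem hyp {v : V} {ε : K} (hε : ε * ε = 1) (hv : v ∈ M) (h0 : v ≠ 0) (h1 : s v = ε • v) :
    ∃ w ∈ M, s w = ε • w ∧ B (d w) v = 1 := by
  obtain ⟨w, hw, hwv⟩ := A.exists_pair A.ndr hv h0
  refine ⟨(2 : K)⁻¹ • (w + ε • s w), (M).smul_mem _ ((M).add_mem hw ((M).smul_mem _ (A.sM hw))), ?_, ?_⟩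
  · have hsw : s (s w) = w := hw.1
    simp only [map_smul, map_add, hsw]
    have : (2 : K)⁻¹ • (s w + ε • w) = (2 : K)⁻¹ • ((ε * ε) • s w + ε • w) := by rw [hε, one_smul]
    rw [this]; module
  · have h3 : B (d (s w)) v = ε := by
      have h4 : B (s (d w)) (s v) = B (d w) v := polar_map A.Os _ _
      rw [h1, polar_smul_right, A.sd, hwv, smul_eq_mul] at h4
      calc _ = ε * (ε * B (d (s w)) v) := by rw [← mul_assoc, hε, one_mul]
        _ = _ := by rw [h4, mul_one]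
    simp only [map_smul, map_add, polar_smul_left, polar_add_left, hwv, h3, smul_eq_mul, hε]
    have := A.two
    field_simp
    norm_num

/-- eigenvectors -/
theorem eig {v : V} (hv : v ∈ M) (h0 : v ≠ 0) : ∃ ε c : K, ε * ε = 1 ∧ (2 : K)⁻¹ • (v + ε • s v) ≠ 0 := by
  by_contra hcon
  push Not at hcon
  have h1 := hcon 1 0 (one_mul 1)
  have h2 := hcon (-1) 0 (by ring)
  apply h0
  have h3 : v = ((2 : K)⁻¹ * 2) • v := by rw [inv_mul_cancel₀ A.two, one_smul]
  rw [h3]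
  calc ((2 : K)⁻¹ * 2) • v = (2 : K)⁻¹ • (v + (1 : K) • s v) + (2 : K)⁻¹ • (v + (-1 : K) • s v) := by module
    _ = 0 := by rw [h1, h2, add_zero]

/-- the decomposition of `V` and equality of maps commuting with `Nh` -/
theorem eq_one {e : V ≃ₗ[K] V} (he : ∀ n ∈ Nh, e * n = n * e) (hM : ∀ v ∈ M, e v = v)
    (hc : ∀ v, s (s v) = -v → e v = v) : e = 1 := by
  have h : ∀ n ∈ Nh, ∀ y, e (n y) = n (e y) := fun n hn y => congrArg (fun f : V ≃ₗ[K] V => f y) (he n hn)
  have hd : ∀ y, e (d y) = d (e y) := fun y => by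
    rw [dd_apply, dd_apply, h _ A.N2, h _ A.M2]
  refine LinearEquiv.ext fun y => ?_
  obtain ⟨a, b, rfl, ha, hb⟩ := A.dec y
  obtain ⟨y0, hy0, y1, hy1, y2, hy2, y3, hy3, rfl⟩ := A.exists_dec (show a ∈ Wr s from ha)
  change e (y0 + d y1 + (m1 y2 + m1 (d y3)) + b) = y0 + d y1 + (m1 y2 + m1 (d y3)) + b
  simp only [map_add, hc b hb, h _ A.M1, hd, hM _ hy0, hM _ hy1, hM _ hy2, hM _ hy3]

/-- the form and hyperbolic pairs -/
theorem pair_facts {v w : V} (hv : v ∈ M) (hw : w ∈ M) (h : B (d w) v = 1) :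
    B (d v) w = -1 ∧ B (d v) v = 0 ∧ B (d w) w = 0 :=
  ⟨by rw [A.sym hv.1, h], by rw [polar_comm, A.Bvdv hv.1], by rw [polar_comm, A.Bvdv hw.1]⟩

/-- independence -/
theorem indep {v w : V} (hv : v ∈ M) (hw : w ∈ M) (h : B (d w) v = 1) {a b c e : K}
    (h1 : a • v + b • w = c • v + e • w) : a = c ∧ b = e := by
  obtain ⟨k1, k2, k3⟩ := A.pair_facts hv hw h
  constructor
  · have h2 := congrArg (fun y => B (d w) y) h1
    simp only [polar_add_right, polar_smul_right, h, k3, smul_eq_mul] at h2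
    linear_combination h2
  · have h2 := congrArg (fun y => B (d v) y) h1
    simp only [polar_add_right, polar_smul_right, k1, k2, smul_eq_mul] at h2
    linear_combination -h2

/-- a second pair -/
theorem second {v w y : V} {ε : K} (hε : ε * ε = 1) (hv : v ∈ M) (hw : w ∈ M) (h1 : s v = ε • v) (h2 : s w = ε • w)
    (h : B (d w) v = 1) (hy : y ∈ M) (hne : y ≠ B (d w) y • v - B (d v) y • w) :
    ∃ (v' w' : V) (ε' : K), ε' * ε' = 1 ∧ v' ∈ M ∧ w' ∈ M ∧ s v' = ε' • v' ∧ s w' = ε' • w' ∧ B (d w') v' = 1 ∧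
      B (d v) v' = 0 ∧ B (d v) w' = 0 ∧ B (d w) v' = 0 ∧ B (d w) w' = 0 := by
  obtain ⟨k1, k2, k3⟩ := A.pair_facts hv hw h
  have key : ∀ u : V, s u = ε • u → ∀ x, B (d u) (s x) = ε * B (d u) x := by
    intro u hu x
    have h4 : B (s (d u)) (s x) = B (d u) x := polar_map A.Os _ _
    rw [A.sd, hu, map_smul, polar_smul_left, smul_eq_mul] at h4
    calc _ = ε * (ε * B (d u) (s x)) := by rw [← mul_assoc, hε, one_mul]
      _ = _ := by rw [h4]
  -- projection to the orthogonal complement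
  let y' := y - (B (d w) y • v - B (d v) y • w)
  have hy' : y' ∈ M := (M).sub_mem hy ((M).sub_mem ((M).smul_mem _ hv) ((M).smul_mem _ hw))
  have hy0 : y' ≠ 0 := fun h => hne (sub_eq_zero.1 h)
  have o1 : B (d v) y' = 0 := by
    simp only [y', polar_sub_right, polar_smul_right, k1, k2, smul_eq_mul]; ring
  have o2 : B (d w) y' = 0 := by
    simp only [y', polar_sub_right, polar_smul_right, h, k3, smul_eq_mul]; ring
  obtain ⟨ε', -, hε', hv0⟩ := A.eig hy' hy0
  set v' := (2 : K)⁻¹ • (y' + ε' • s y') with hv'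
  have hv'M : v' ∈ M := (M).smul_mem _ ((M).add_mem hy' ((M).smul_mem _ (A.sM hy')))
  have hsv' : s v' = ε' • v' := by
    have hss : s (s y') = y' := hy'.1
    rw [hv']
    simp only [map_smul, map_add, hss]
    have : (2 : K)⁻¹ • (s y' + ε' • y') = (2 : K)⁻¹ • ((ε' * ε') • s y' + ε' • y') := by rw [hε', one_smul]
    rw [this]; module
  have o3 : B (d v) v' = 0 := by
    rw [hv', polar_smul_right, polar_add_right, polar_smul_right, key v h1, o1]; simp
  have o4 : B (d w) v' = 0 := by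
    rw [hv', polar_smul_right, polar_add_right, polar_smul_right, key w h2, o2]; simp
  obtain ⟨w0, hw0, hsw0, hwv0⟩ := A.hyp hε' hv'M hv0 hsv'
  have key2 : ∀ u : V, s u = ε • u → ε' * B (d u) w0 = ε * B (d u) w0 := by
    intro u hu
    rw [← key u hu, hsw0, polar_smul_right, smul_eq_mul]
  have p1 : B (d v') v = 0 := by rw [A.sym hv'M.1, o3, neg_zero]
  have p2 : B (d v') w = 0 := by rw [A.sym hv'M.1, o4, neg_zero]
  refine ⟨v', w0 - (B (d w) w0 • v - B (d v) w0 • w), ε', hε', hv'M,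
    (M).sub_mem hw0 ((M).sub_mem ((M).smul_mem _ hv) ((M).smul_mem _ hw)), hsv', ?_, ?_, o3, ?_, o4, ?_⟩
  · simp only [map_sub, map_smul, hsw0, h1, h2]
    have e1 := key2 w h2
    have e2 := key2 v h1
    have : B (d w) w0 • ε • v - B (d v) w0 • ε • w = (ε * B (d w) w0) • v - (ε * B (d v) w0) • w := by module
    rw [this, ← e1, ← e2]; module
  · rw [A.sym (Submodule.sub_mem _ hw0.1 (Submodule.sub_mem _ (Submodule.smul_mem _ _ hv.1)
      (Submodule.smul_mem _ _ hw.1))), polar_sub_right, polar_sub_right, polar_smul_right, polar_smul_right, p1, p2,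
      A.sym hv'M.1, hwv0]
    simp
  · simp only [polar_sub_right, polar_smul_right, k1, k2, smul_eq_mul]; ring
  · simp only [polar_sub_right, polar_smul_right, h, k3, smul_eq_mul]; ring

/-- the element `J` of order four of a hyperbolic plane -/
theorem J_facts {v w : V} (hv : v ∈ M) (hw : w ∈ M) (h : B (d w) v = 1) {J : V ≃ₗ[K] V}
    (hJ : ∀ y, J y = XX Q m1 d v w 0 (-1) 1 0 y) :
    J v = w ∧ J w = -v ∧ J ^ 4 = 1 ∧ (∀ u ∈ M, B (d v) u = 0 → B (d w) u = 0 → J u = u) ∧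
      (∀ y, s (s y) = -y → J y = y) := by
  refine ⟨?_, ?_, ?_, ?_, ?_⟩
  · rw [hJ, A.X_v hv hw h]; module
  · rw [hJ, A.X_w hv hw h]; module
  · refine LinearEquiv.ext fun y => ?_
    change J (J (J (J y))) = y
    rw [hJ (J (J (J y))), hJ (J (J y)), hJ (J y), hJ y, A.X_comp hv hw h, A.X_comp hv hw h, A.X_comp hv hw h, XX_apply]
    module
  · intro u hu h1 h2
    rw [hJ, A.X_fix hv hw hu h1 h2]
  · intro y hy
    rw [hJ, A.X_perp hv hw _ _ _ _ (fun u hu => A.orth hu hy)]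

omit A in
theorem pow4 {v w : V} {J : V ≃ₗ[K] V} (h1 : J v = w) (h2 : J w = -v) (h4 : J ^ 4 = 1) (p : ℕ) :
    (p % 4 = 0 ∧ (J ^ p) v = v) ∨ (p % 4 = 1 ∧ (J ^ p) v = w) ∨ (p % 4 = 2 ∧ (J ^ p) v = -v) ∨
      (p % 4 = 3 ∧ (J ^ p) v = -w) := by
  have h3 : J ^ p = J ^ (p % 4) := pow_eq_pow_mod p h4
  have h5 : p % 4 < 4 := Nat.mod_lt _ (by norm_num)
  rw [h3]
  interval_cases p % 4
  · left; exact ⟨rfl, rfl⟩
  · right; left
    refine ⟨rfl, ?_⟩
    rw [pow_one, h1]
  · right; right; left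
    refine ⟨rfl, ?_⟩
    change J (J v) = -v
    rw [h1, h2]
  · right; right; right
    refine ⟨rfl, ?_⟩
    change J (J (J v)) = -w
    rw [h1, h2, map_neg, h1]

/-- **the main computation for `T5`** -/
theorem key {v w v' w' b : V} (hv : v ∈ M) (hw : w ∈ M) (h : B (d w) v = 1) (hv' : v' ∈ M) (hw' : w' ∈ M)
    (h' : B (d w') v' = 1) (o1 : B (d v) v' = 0) (o2 : B (d v) w' = 0) (o3 : B (d w) v' = 0) (o4 : B (d w) w' = 0)
    {J1 J2 : V ≃ₗ[K] V} (hJ1 : ∀ y, J1 y = XX Q m1 d v w 0 (-1) 1 0 y)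
    (hJ2 : ∀ y, J2 y = XX Q m1 d v' w' 0 (-1) 1 0 y) (hb0 : b ≠ 0) (hb : s (s b) = -b) {p q k : ℕ} {c : K}
    (he : ∀ y, (J1 ^ p) ((J2 ^ q) y) = c • (s ^ k) y) :
    (p % 4 = 0 ∧ q % 4 = 0) ∨ (p % 4 = 2 ∧ q % 4 = 2 ∧ ∀ y, s (s y) = y → J1 (J1 (J2 (J2 y))) = -y) := by
  obtain ⟨a1, a2, a3, a4, a5⟩ := A.J_facts hv hw h hJ1
  obtain ⟨b1, b2, b3, b4, b5⟩ := A.J_facts hv' hw' h' hJ2
  have hne : (1 : K) ≠ -1 := by
    intro h
    apply A.two
    linear_combination h
  have fixpow : ∀ (J : V ≃ₗ[K] V) (u : V), J u = u → ∀ p : ℕ, (J ^ p) u = u := by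
    intro J u hu p
    induction p with
    | zero => rfl
    | succ p ih =>
      change (J ^ p) (J u) = u
      rw [hu, ih]
  -- `k` is even
  have hs4 : s ^ 4 = 1 := LinearEquiv.ext A.s4
  have hsk : s ^ k = s ^ (k % 4) := pow_eq_pow_mod k hs4
  have hkr : ∀ y, s (s y) = y → (s ^ k) y = y := by
    have hc : ∀ y, s (s y) = -y → y = c • (s ^ (k % 4)) y := by
      intro y hy
      have h1 := he y
      rwa [fixpow J2 y (b5 y hy), fixpow J1 y (a5 y hy), hsk] at h1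
    have hc0 : c ≠ 0 := by
      rintro rfl
      apply hb0
      rw [hc b hb, zero_smul]
    have h5 : k % 4 < 4 := Nat.mod_lt _ (by norm_num)
    intro y hy
    rw [hsk]
    interval_cases hk : k % 4
    · rfl
    · exfalso
      apply hb0
      refine A.not_sc hb (c := c⁻¹) fun v hv => ?_
      have h1 := hc v hv
      rw [pow_one] at h1
      rw [eq_comm, inv_smul_eq_iff₀ hc0]
      exact h1
    · exact hy
    · exfalso
      apply hb0
      refine A.not_sc hb (c := -c⁻¹) fun v hv => ?_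
      have h1 := hc v hv
      have h2 : (s ^ 3) v = -s v := by
        change s (s (s v)) = _
        rw [hv, map_neg]
      rw [h2] at h1
      have h3 : s v = c⁻¹ • (-v) := by
        rw [eq_comm, inv_smul_eq_iff₀ hc0]
        nth_rewrite 1 [h1]
        rw [smul_neg, neg_neg]
      rw [h3]; module
  have e1 : (J1 ^ p) v = c • v := by
    have h1 := he v
    rwa [fixpow J2 v (b4 v hv (by rw [A.sym hv'.1, o1, neg_zero]) (by rw [A.sym hw'.1, o2, neg_zero])),
      hkr v hv.1] at h1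
  have h01 : ∀ u ∈ M, B (d v) u = 0 → B (d w) u = 0 → (J1 ^ p) u = u := fun u hu h1 h2 => fixpow J1 u (a4 u hu h1 h2) p
  have e2 : (J2 ^ q) v' = c • v' := by
    have h1 := he v'
    rw [hkr v' hv'.1] at h1
    have h2 : (J1 ^ p) ((J2 ^ q) v') = (J2 ^ q) v' := by
      have f1 := h01 v' hv' o1 o3
      have f2 := h01 w' hw' o2 o4
      rcases pow4 b1 b2 b3 q with ⟨-, h2⟩ | ⟨-, h2⟩ | ⟨-, h2⟩ | ⟨-, h2⟩
      · rw [h2, f1]
      · rw [h2, f2]
      · rw [h2, map_neg, f1]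
      · rw [h2, map_neg, f2]
    rwa [h2] at h1
  have fin : ∀ (J : V ≃ₗ[K] V) (v w : V) (q : ℕ), v ∈ M → w ∈ M → B (d w) v = 1 → J v = w → J w = -v → J ^ 4 = 1 →
      (J ^ q) v = c • v → (q % 4 = 0 ∧ c = 1) ∨ (q % 4 = 2 ∧ c = -1) := by
    intro J v w q hv hw h c1 c2 c3 e
    rcases pow4 c1 c2 c3 q with ⟨h1, h2⟩ | ⟨h1, h2⟩ | ⟨h1, h2⟩ | ⟨h1, h2⟩
    · left
      refine ⟨h1, ?_⟩
      have h3 := A.indep hv hw h (a := 1) (b := 0) (c := c) (e := 0) (by
        have : c • v = v := by rw [← e, h2]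
        rw [this]; module)
      exact h3.1.symm
    · exfalso
      have h3 := A.indep hv hw h (a := 0) (b := 1) (c := c) (e := 0) (by
        have : c • v = w := by rw [← e, h2]
        rw [this]; module)
      exact one_ne_zero h3.2
    · right
      refine ⟨h1, ?_⟩
      have h3 := A.indep hv hw h (a := -1) (b := 0) (c := c) (e := 0) (by
        have : c • v = -v := by rw [← e, h2]
        rw [this]; module)
      exact h3.1.symm
    · exfalso
      have h3 := A.indep hv hw h (a := 0) (b := -1) (c := c) (e := 0) (by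
        have : c • v = -w := by rw [← e, h2]
        rw [this]; module)
      exact (neg_ne_zero.2 one_ne_zero) h3.2
  rcases fin J1 v w p hv hw h a1 a2 a3 e1 with ⟨p1, p2⟩ | ⟨p1, p2⟩ <;>
  rcases fin J2 v' w' q hv' hw' h' b1 b2 b3 e2 with ⟨q1, q2⟩ | ⟨q1, q2⟩
  · exact Or.inl ⟨p1, q1⟩
  · exact absurd (p2.symm.trans q2) hne
  · exact absurd (q2.symm.trans p2) hne
  · refine Or.inr ⟨p1, q1, fun y hy => ?_⟩
    have h1 := he y
    rw [hkr y hy, p2, neg_one_smul, pow_eq_pow_mod p a3, pow_eq_pow_mod q b3, p1, q1] at h1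
    exact h1

end

end SO

section main

variable {G : Type*} [Group G] [Finite G] {Q : QuadraticForm K V} {s n1 m1 n2 m2 : V ≃ₗ[K] V} {α β : K}
  {Nh Eh : Subgroup (V ≃ₗ[K] V)} {π : ↥(E Q) →* G} {N0 A0 E0 : Subgroup G} {z s0 x r : G}
  {ψ : ↥A0 →* Equiv.Perm (Fin 6)} {zh xh rh : V ≃ₗ[K] V}

local notation "B" => polar Q
local notation "d" => dd n2 m2
local notation "M" => Mo (Wr s) n1 n2 m2 α β

/-- two orthogonal hyperbolic planes are impossible -/
theorem caseA (T : Kit N0 A0 E0 z s0 x r ψ) (L : Lin (E Q) π)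
    (l : LKit (E Q) π N0 A0 E0 z s0 x r Nh Eh zh s xh rh) (A : SO Q s n1 m1 n2 m2 α β Nh) {b : V} (hb0 : b ≠ 0)
    (hb : s (s b) = -b) {v w v' w' : V} {ε ε' : K} (hε : ε * ε = 1) (hε' : ε' * ε' = 1)
    (hv : v ∈ M) (hw : w ∈ M) (h : B (d w) v = 1) (hv' : v' ∈ M) (hw' : w' ∈ M)
    (h' : B (d w') v' = 1) (o1 : B (d v) v' = 0) (o2 : B (d v) w' = 0) (o3 : B (d w) v' = 0) (o4 : B (d w) w' = 0)
    (s1 : s v = ε • v) (s2 : s w = ε • w) (s3 : s v' = ε' • v') (s4 : s w' = ε' • w') : False := by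
  obtain ⟨J1, hJ1E, hJ1⟩ := A.exists_X hv hw h (a := 0) (b := -1) (c := 1) (e := 0) (by ring)
  obtain ⟨J2, hJ2E, hJ2⟩ := A.exists_X hv' hw' h' (a := 0) (b := -1) (c := 1) (e := 0) (by ring)
  have hcomm : J1 * J2 = J2 * J1 := LinearEquiv.ext fun y => by
    change J1 (J2 y) = J2 (J1 y)
    rw [hJ1, hJ2, hJ2, hJ1, A.X_orth hv hw hv' hw' o1 o2 o3 o4]
  have hN1 : ∀ n ∈ Nh, J1 * n = n * J1 := fun n hn => LinearEquiv.ext fun y => by
    change J1 (n y) = n (J1 y)
    rw [hJ1, hJ1]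
    exact A.X_N hε hv hw s1 s2 0 (-1) 1 0 hn y
  have hN2 : ∀ n ∈ Nh, J2 * n = n * J2 := fun n hn => LinearEquiv.ext fun y => by
    change J2 (n y) = n (J2 y)
    rw [hJ2, hJ2]
    exact A.X_N hε' hv' hw' s3 s4 0 (-1) 1 0 hn y
  obtain ⟨a1, a2, a3, a4, a5⟩ := A.J_facts hv hw h hJ1
  obtain ⟨b1, b2, b3, b4, b5⟩ := A.J_facts hv' hw' h' hJ2
  let p1 : ↥(E Q) := ⟨J1, hJ1E⟩
  let p2 : ↥(E Q) := ⟨J2, hJ2E⟩
  have hp12 : Commute (π p1) (π p2) := by
    change π p1 * π p2 = π p2 * π p1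
    rw [← map_mul, ← map_mul]
    exact congrArg π (Subtype.ext hcomm)
  have c1 : ∀ n ∈ N0, π p1 * n = n * π p1 :=
    l.mem_C L hJ1E (fun n hn => ⟨1, fun v => by rw [one_smul, hN1 n hn]⟩)
  have c2 : ∀ n ∈ N0, π p2 * n = n * π p2 :=
    l.mem_C L hJ2E (fun n hn => ⟨1, fun v => by rw [one_smul, hN2 n hn]⟩)
  have q1 : π p1 ^ 4 = 1 := by
    rw [← map_pow, ← map_one π]
    exact congrArg π (Subtype.ext a3)
  have q2 : π p2 ^ 4 = 1 := by
    rw [← map_pow, ← map_one π]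
    exact congrArg π (Subtype.ext b3)
  have key' : ∀ p q : ℕ, π p1 ^ p * π p2 ^ q ∈ zpowers s0 → (p % 4 = 0 ∧ q % 4 = 0) ∨
      (p % 4 = 2 ∧ q % 4 = 2 ∧ ∀ y, s (s y) = y → J1 (J1 (J2 (J2 y))) = -y) := by
    intro p q hpq
    obtain ⟨k, hk⟩ := mem_powers_iff_mem_zpowers.2 hpq
    have hk' : s0 ^ k = π p1 ^ p * π p2 ^ q := hk
    obtain ⟨c, -, hc⟩ := L.smul_of_eq (g := p1 ^ p * p2 ^ q) (h := ⟨s, l.sG⟩ ^ k) (by
      rw [map_mul, map_pow, map_pow, map_pow, l.pi_s, hk'])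
    exact A.key hv hw h hv' hw' h' o1 o2 o3 o4 hJ1 hJ2 hb0 hb (c := c) (k := k) hc
  by_cases hI : ∀ y, s (s y) = y → J1 (J1 (J2 (J2 y))) = -y
  · refine T5b T (a := π p1) (b := π p1 * π p2) c1 ?_ ?_ q1 ?_ ?_
    · intro n hn
      rw [mul_assoc, c2 n hn, ← mul_assoc, c1 n hn, mul_assoc]
    · exact ((Commute.refl (π p1)).mul_right hp12).eq
    · have h1 : π ((p1 * p2) ^ 2) = π (⟨s, l.sG⟩ ^ 2) := by
        refine L.eq_of_smul (c := -1) fun y => ?_
        change J1 (J2 (J1 (J2 y))) = (-1 : K) • s (s y)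
        have h2 : J2 (J1 (J2 y)) = J1 (J2 (J2 y)) := (congrArg (fun f : V ≃ₗ[K] V => f (J2 y)) hcomm).symm
        rw [h2]
        obtain ⟨a, b', rfl, ha, hb'⟩ := A.dec y
        simp only [map_add]
        rw [hI a ha, b5 b' hb', b5 b' hb', a5 b' hb', a5 b' hb', ha, hb']
        module
      rw [map_pow, map_mul, map_pow, l.pi_s] at h1
      rw [h1]
      exact pow_mem (mem_zpowers s0) 2
    · intro i j hij
      rw [hp12.mul_pow, ← mul_assoc, ← pow_add] at hij
      rcases key' _ _ hij with ⟨h1, h2⟩ | ⟨h1, h2, -⟩ <;> omega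
  · refine T5b T (a := π p1) (b := π p2 ^ 2) c1 ?_ ?_ q1 ?_ ?_
    · intro n hn
      exact ((show Commute (π p2) n from c2 n hn).pow_left 2).eq
    · exact (hp12.pow_right 2).eq
    · rw [← pow_mul, q2]
      exact one_mem _
    · intro i j hij
      rw [← pow_mul] at hij
      rcases key' _ _ hij with ⟨h1, h2⟩ | ⟨h1, h2, h3⟩
      · omega
      · exact absurd h3 hI

open Cfsg.Agent.H402.PSL2Cls (mkSL ext4 mul00 mul01 mul10 mul11 tr det_eq exists_conj_of_tr_eq) in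
/-- only one hyperbolic plane is impossible -/
theorem caseB [Finite K] [FiniteDimensional K V] (T : Kit N0 A0 E0 z s0 x r ψ) (L : Lin (E Q) π)
    (l : LKit (E Q) π N0 A0 E0 z s0 x r Nh Eh zh s xh rh) (A : SO Q s n1 m1 n2 m2 α β Nh)
    (hE : ∀ e ∈ Eh, ∀ y, s (s y) = -y → e y = y) (hnt : ∃ e ∈ Eh, ∃ y, s (s y) = y ∧ e y ≠ y)
    {v w : V} {ε : K} (hε : ε * ε = 1)
    (hv : v ∈ M) (hw : w ∈ M) (h : B (d w) v = 1) (s1 : s v = ε • v) (s2 : s w = ε • w)
    (hspan : ∀ y ∈ M, y = B (d w) y • v - B (d v) y • w) : False := by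
  obtain ⟨k1, k2, k3⟩ := A.pair_facts hv hw h
  have hv0 : v ≠ 0 := by
    rintro rfl
    rw [polar_zero_right] at h
    exact zero_ne_one h
  have hEN : ∀ e ∈ Eh, ∀ n ∈ Nh, e * n = n * e := l.Eh_comm
  have hEs : ∀ e ∈ Eh, e * s = s * e := fun e he => l.Eh_comm e he s l.sN
  have hEO : ∀ e ∈ Eh, e ∈ O Q := fun e he => E_le_O (l.Eh_le he)
  have hEM : ∀ e ∈ Eh, ∀ y ∈ M, e y ∈ M := fun e he y hy => A.eM (hEN e he) (hEs e he) hy
  have hEd : ∀ e ∈ Eh, ∀ y, e (d y) = d (e y) := by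
    intro e he y
    have h1 : e (n2 (m2 y)) = n2 (e (m2 y)) := congrArg (fun f : V ≃ₗ[K] V => f (m2 y)) (hEN e he n2 A.N2)
    have h2 : e (m2 y) = m2 (e y) := congrArg (fun f : V ≃ₗ[K] V => f y) (hEN e he m2 A.M2)
    rw [dd_apply, dd_apply, h1, h2]
  have hEm : ∀ e ∈ Eh, ∀ y, e (m1 y) = m1 (e y) := fun e he y =>
    congrArg (fun f : V ≃ₗ[K] V => f y) (hEN e he m1 A.M1)
  -- the matrix
  have ev : ∀ e ∈ Eh, e v = B (d w) (e v) • v + (-B (d v) (e v)) • w := by
    intro e he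
    conv_lhs => rw [hspan _ (hEM e he v hv)]
    module
  have ew : ∀ e ∈ Eh, e w = B (d w) (e w) • v + (-B (d v) (e w)) • w := by
    intro e he
    conv_lhs => rw [hspan _ (hEM e he w hw)]
    module
  have edet : ∀ e ∈ Eh, B (d w) (e v) * (-B (d v) (e w)) - B (d w) (e w) * (-B (d v) (e v)) = 1 := by
    intro e he
    have h1 : B (d (e w)) (e v) = 1 := by
      rw [← hEd e he, polar_map (hEO e he), h]
    have h2 : ∀ a b c e' : K, B (d (a • v + b • w)) (c • v + e' • w) = c * b - a * e' := by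
      intro a b c e'
      rw [map_add, map_smul, map_smul, polar_add_left, polar_add_right, polar_add_right, polar_smul_left,
        polar_smul_left, polar_smul_left, polar_smul_left, polar_smul_right, polar_smul_right, polar_smul_right,
        polar_smul_right, h, k1, k2, k3]
      simp only [smul_eq_mul]; ring
    have h3 := h2 (B (d w) (e w)) (-B (d v) (e w)) (B (d w) (e v)) (-B (d v) (e v))
    rw [← ew e he, ← ev e he, h1] at h3
    exact h3.symm
  let f : ↥Eh →* Matrix.SpecialLinearGroup (Fin 2) K :=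
    { toFun := fun e => mkSL _ _ _ _ (edet e.1 e.2)
      map_one' := by
        refine ext4 ?_ ?_ ?_ ?_
        · change B (d w) v = 1
          exact h
        · change B (d w) w = 0
          exact k3
        · change -B (d v) v = 0
          rw [k2, neg_zero]
        · change -B (d v) w = 1
          rw [k1, neg_neg]
      map_mul' := by
        intro e e'
        have h1 : ∀ a b : K, ∀ u : V, B u (e.1 (a • v + b • w)) = a * B u (e.1 v) + b * B u (e.1 w) := by
          intro a b u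
          rw [map_add, map_smul, map_smul, polar_add_right, polar_smul_right, polar_smul_right]
          rfl
        have h2 : ∀ u : V, B u (e.1 (e'.1 v)) = B (d w) (e'.1 v) * B u (e.1 v) + (-B (d v) (e'.1 v)) * B u (e.1 w) := by
          intro u
          rw [← h1, ← ev e'.1 e'.2]
        have h3 : ∀ u : V, B u (e.1 (e'.1 w)) = B (d w) (e'.1 w) * B u (e.1 v) + (-B (d v) (e'.1 w)) * B u (e.1 w) := by
          intro u
          rw [← h1, ← ew e'.1 e'.2]
        refine ext4 ?_ ?_ ?_ ?_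
        · rw [mul00]
          change B (d w) (e.1 (e'.1 v)) = B (d w) (e.1 v) * B (d w) (e'.1 v) + B (d w) (e.1 w) * (-B (d v) (e'.1 v))
          rw [h2]; ring
        · rw [mul01]
          change B (d w) (e.1 (e'.1 w)) = B (d w) (e.1 v) * B (d w) (e'.1 w) + B (d w) (e.1 w) * (-B (d v) (e'.1 w))
          rw [h3]; ring
        · rw [mul10]
          change -B (d v) (e.1 (e'.1 v)) = (-B (d v) (e.1 v)) * B (d w) (e'.1 v) + (-B (d v) (e.1 w)) * (-B (d v) (e'.1 v))
          rw [h2]; ring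
        · rw [mul11]
          change -B (d v) (e.1 (e'.1 w)) = (-B (d v) (e.1 v)) * B (d w) (e'.1 w) + (-B (d v) (e.1 w)) * (-B (d v) (e'.1 w))
          rw [h3]; ring }
  have fv : ∀ e : ↥Eh, e.1 v = (f e).1 0 0 • v + (f e).1 1 0 • w := fun e => ev e.1 e.2
  have fw : ∀ e : ↥Eh, e.1 w = (f e).1 0 1 • v + (f e).1 1 1 • w := fun e => ew e.1 e.2
  have one_of : ∀ e ∈ Eh, e v = v → e w = w → e = 1 := by
    intro e he h1 h2
    refine A.eq_one (hEN e he) (fun y hy => ?_) (hE e he)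
    rw [hspan y hy, map_sub, map_smul, map_smul, h1, h2]
  have hinj : Function.Injective f := by
    rw [injective_iff_map_eq_one]
    intro e he
    refine Subtype.ext (one_of e.1 e.2 ?_ ?_)
    · rw [fv, he]
      change (1 : K) • v + (0 : K) • w = v
      module
    · rw [fw, he]
      change (0 : K) • v + (1 : K) • w = w
      module
  have : Finite V := Module.finite_of_finite K
  have : Finite (V ≃ₗ[K] V) := DFunLike.finite _
  -- `char K = 3`
  have h3 : (3 : K) = 0 := by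
    by_contra h3
    have hA : ∀ e : ↥Eh, π ⟨e.1, l.Eh_le e.2⟩ ∈ A0 := fun e => T.E_A (l.Eh_mem e.1 e.2 _)
    let φ : ↥Eh →* Equiv.Perm (Fin 6) := ψ.comp ((π.comp (Subgroup.inclusion l.Eh_le)).codRestrict A0 hA)
    refine no_SL2 h3 f hinj φ fun σ hσ => ?_
    obtain ⟨e, he, heσ⟩ := T.E_img σ hσ
    obtain ⟨g, hg, hge⟩ := l.Eh_surj e he
    refine ⟨⟨g, hg⟩, ?_⟩
    have h4 := heσ (T.E_A he)
    rw [← h4]
    exact congrArg ψ (Subtype.ext (hge (l.Eh_le hg)))
  -- Cayley-Hamilton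
  have CH : ∀ e : ↥Eh, ∀ y ∈ Wr s, e.1 (e.1 y) = tr (f e) • e.1 y - y := by
    intro e
    have hdet := det_eq (f e)
    have l1 : ∀ (a b c e' : K), a * e' - b * c = 1 →
        a • (a • v + c • w) + c • (b • v + e' • w) = (a + e') • (a • v + c • w) - v := by
      intro a b c e' h
      calc _ = (a + e') • (a • v + c • w) - (a * e' - b * c) • v := by module
        _ = _ := by rw [h, one_smul]
    have l2 : ∀ (a b c e' : K), a * e' - b * c = 1 →
        b • (a • v + c • w) + e' • (b • v + e' • w) = (a + e') • (b • v + e' • w) - w := by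
      intro a b c e' h
      calc _ = (a + e') • (b • v + e' • w) - (a * e' - b * c) • w := by module
        _ = _ := by rw [h, one_smul]
    have c1 : e.1 (e.1 v) = tr (f e) • e.1 v - v := by
      rw [fv, map_add, map_smul, map_smul, fv, fw]
      exact l1 _ _ _ _ hdet
    have c2 : e.1 (e.1 w) = tr (f e) • e.1 w - w := by
      rw [fw, map_add, map_smul, map_smul, fv, fw]
      exact l2 _ _ _ _ hdet
    have c3 : ∀ y ∈ M, e.1 (e.1 y) = tr (f e) • e.1 y - y := by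
      intro y hy
      rw [hspan y hy]
      simp only [map_sub, map_smul, c1, c2]
      module
    intro y hy
    obtain ⟨y0, hy0, y1, hy1, y2, hy2, y3, hy3, rfl⟩ := A.exists_dec hy
    simp only [map_add, hEm e.1 e.2, hEd e.1 e.2, c3 _ hy0, c3 _ hy1, c3 _ hy2, c3 _ hy3, map_sub, map_smul]
    module
  let xx : ↥Eh := ⟨xh, l.xE⟩
  -- the trace of `x`
  have ht : tr (f xx) ^ 2 ≠ 4 := by
    intro ht
    have hx3 : ∀ y ∈ Wr s, xh (xh (xh y)) = -tr (f xx) • y := by
      intro y hy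
      have h4 := CH xx y hy
      have h5 : xh (xh (xh y)) = tr (f xx) • xh (xh y) - xh y := by
        rw [show xh (xh y) = tr (f xx) • xh y - y from h4, map_sub, map_smul]
        rw [show xh (xh y) = tr (f xx) • xh y - y from h4]
      rw [h5, show xh (xh y) = tr (f xx) • xh y - y from h4]
      have h6 : tr (f xx) • (tr (f xx) • xh y - y) - xh y = (tr (f xx) ^ 2 - 4 + 3) • xh y - tr (f xx) • y := by module
      rw [h6, ht, h3, sub_self, add_zero, zero_smul]
      module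
    have hx6 : xh ^ 6 = 1 := by
      have hmem : xh ^ 6 ∈ Eh := pow_mem l.xE 6
      have h7 : ∀ y ∈ Wr s, (xh ^ 6) y = y := by
        intro y hy
        change xh (xh (xh (xh (xh (xh y))))) = y
        rw [hx3 y hy, map_smul, map_smul, map_smul, hx3 y hy, smul_smul]
        have h8 : -tr (f xx) * -tr (f xx) = 1 + 3 := by linear_combination ht
        rw [h8, h3, add_zero, one_smul]
      exact one_of _ hmem (h7 v hv.1) (h7 w hw.1)
    have hx1 : xh = 1 := by
      obtain ⟨k, hk⟩ := l.x_five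
      have h7 : orderOf xh ∣ 6 := orderOf_dvd_of_pow_eq_one hx6
      have h8 : orderOf xh ∣ 5 ^ k := orderOf_dvd_of_pow_eq_one hk
      have h9 : Nat.Coprime 6 (5 ^ k) := Nat.Coprime.pow_right _ (by norm_num)
      exact orderOf_eq_one_iff.1 (Nat.eq_one_of_dvd_coprimes h9 h7 h8)
    have h2 : x = 1 := by
      rw [← l.pi_x (by rw [hx1]; exact one_mem _)]
      have : (⟨xh, by rw [hx1]; exact one_mem _⟩ : ↥(E Q)) = 1 := Subtype.ext hx1
      rw [this, map_one]
    have h3' := T.psi_x (by rw [h2]; exact one_mem _)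
    have h4 : (⟨x, by rw [h2]; exact one_mem _⟩ : ↥A0) = 1 := Subtype.ext h2
    rw [h4, map_one] at h3'
    exact c5_ne h3'.symm
  -- `rh` commutes with `s²`
  have hrN : ∀ e ∈ Eh, rh * e * rh⁻¹ ∈ Eh := fun e he => ((mem_normalizer_iff.1 l.rE) e).1 he
  have hrr : ∀ y, rh (rh⁻¹ y) = y := fun y => LinearEquiv.apply_symm_apply rh y
  have hrr' : ∀ y, rh⁻¹ (rh y) = y := fun y => LinearEquiv.symm_apply_apply rh y
  have hr2 : ∀ y, rh (s (s y)) = s (s (rh y)) := by
    obtain ⟨c, hc0, hc⟩ := l.r_s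
    have hsi : ∀ y, s⁻¹ (s y) = y := fun y => LinearEquiv.symm_apply_apply s y
    have h4 : ∀ y, rh (s (s y)) = (c * c) • s (s (rh y)) := by
      intro y
      have h5 : ∀ u, rh (s u) = c • s⁻¹ (rh u) := hc
      rw [h5, h5, map_smul, smul_smul]
      congr 1
      conv_lhs => rw [← A.s4 (rh y)]
      rw [hsi, hsi]
    have h5 : c * c * (c * c) = 1 := by
      have h6 : rh v = (c * c * (c * c)) • rh v := by
        conv_lhs => rw [← A.s4 v]
        rw [h4, h4, map_smul, map_smul, A.s4, smul_smul]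
      have h7 : (1 - c * c * (c * c)) • rh v = 0 := by
        rw [sub_smul, one_smul, ← h6, sub_self]
      rcases smul_eq_zero.1 h7 with h8 | h8
      · linear_combination -h8
      · exact absurd ((LinearEquiv.map_eq_zero_iff rh).1 h8) hv0
    have h6 : (c * c - 1) * (c * c + 1) = 0 := by linear_combination h5
    rcases mul_eq_zero.1 h6 with h7 | h7
    · intro y
      rw [h4, show c * c = 1 by linear_combination h7, one_smul]
    · exfalso
      obtain ⟨e, he, y, hy, hne⟩ := hnt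
      apply hne
      have h8 : s (s (rh y)) = -rh y := by
        have h9 := h4 y
        rw [hy, show c * c = -1 by linear_combination h7] at h9
        calc s (s (rh y)) = -((-1 : K) • s (s (rh y))) := by module
          _ = -rh y := by rw [← h9]
      have h9 := hE _ (hrN e he) (rh y) h8
      change rh (e (rh⁻¹ (rh y))) = rh y at h9
      rw [hrr'] at h9
      exact rh.injective h9
  -- the conjugate of `x`
  let yy : ↥Eh := ⟨rh * xh * rh⁻¹, hrN xh l.xE⟩
  have htr : tr (f xx) = tr (f yy) := by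
    have h4 := CH yy v hv.1
    have hW : rh⁻¹ v ∈ Wr s := by
      rw [mem_Wr]
      apply rh.injective
      rw [hr2, hrr]
      exact hv.1
    have h5 := CH xx _ hW
    have h6 : yy.1 (yy.1 v) = tr (f xx) • yy.1 v - v := by
      change rh (xh (rh⁻¹ (rh (xh (rh⁻¹ v))))) = _ • rh (xh (rh⁻¹ v)) - v
      rw [hrr', show xh (xh (rh⁻¹ v)) = tr (f xx) • xh (rh⁻¹ v) - rh⁻¹ v from h5, map_sub, map_smul, hrr]
    rw [h4] at h6
    have h7 : (tr (f xx) - tr (f yy)) • yy.1 v = 0 := by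
      rw [sub_smul, sub_eq_zero]
      exact (sub_left_injective h6).symm
    rcases smul_eq_zero.1 h7 with h8 | h8
    · exact sub_eq_zero.1 h8
    · exact absurd ((LinearEquiv.map_eq_zero_iff yy.1).1 h8) hv0
  have : Fintype K := Fintype.ofFinite K
  obtain ⟨g, hg⟩ := exists_conj_of_tr_eq htr ht
  have hgx : g * f xx = f yy * g := by rw [hg]; group
  obtain ⟨gh, hghE, hgh⟩ := A.exists_X hv hw h (a := g.1 0 0) (b := g.1 0 1) (c := g.1 1 0) (e := g.1 1 1) (det_eq g)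
  have gN : ∀ n ∈ Nh, gh * n = n * gh := fun n hn => LinearEquiv.ext fun y => by
    change gh (n y) = n (gh y)
    rw [hgh, hgh]
    exact A.X_N hε hv hw s1 s2 _ _ _ _ hn y
  have gv : gh v = g.1 0 0 • v + g.1 1 0 • w := by rw [hgh, A.X_v hv hw h]
  have gw : gh w = g.1 0 1 • v + g.1 1 1 • w := by rw [hgh, A.X_w hv hw h]
  have gc : ∀ y, s (s y) = -y → gh y = y := fun y hy => by
    rw [hgh, A.X_perp hv hw _ _ _ _ (fun u hu => A.orth hu hy)]
  have hev : gh (xh v) = yy.1 (gh v) := by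
    rw [show xh v = _ from fv xx, gv, map_add, map_add, map_smul, map_smul, map_smul, map_smul, gv, gw, fv yy, fw yy]
    have e1 := congrArg (fun m : Matrix.SpecialLinearGroup (Fin 2) K => m.1 0 0) hgx
    have e2 := congrArg (fun m : Matrix.SpecialLinearGroup (Fin 2) K => m.1 1 0) hgx
    simp only [mul00, mul10] at e1 e2
    have l1 : (f xx).1 0 0 • (g.1 0 0 • v + g.1 1 0 • w) + (f xx).1 1 0 • (g.1 0 1 • v + g.1 1 1 • w)
        = (g.1 0 0 * (f xx).1 0 0 + g.1 0 1 * (f xx).1 1 0) • v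
          + (g.1 1 0 * (f xx).1 0 0 + g.1 1 1 * (f xx).1 1 0) • w := by module
    rw [l1, e1, e2]
    module
  have hew : gh (xh w) = yy.1 (gh w) := by
    rw [show xh w = _ from fw xx, gw, map_add, map_add, map_smul, map_smul, map_smul, map_smul, gv, gw, fv yy, fw yy]
    have e1 := congrArg (fun m : Matrix.SpecialLinearGroup (Fin 2) K => m.1 0 1) hgx
    have e2 := congrArg (fun m : Matrix.SpecialLinearGroup (Fin 2) K => m.1 1 1) hgx
    simp only [mul01, mul11] at e1 e2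
    have l1 : (f xx).1 0 1 • (g.1 0 0 • v + g.1 1 0 • w) + (f xx).1 1 1 • (g.1 0 1 • v + g.1 1 1 • w)
        = (g.1 0 0 * (f xx).1 0 1 + g.1 0 1 * (f xx).1 1 1) • v
          + (g.1 1 0 * (f xx).1 0 1 + g.1 1 1 * (f xx).1 1 1) • w := by module
    rw [l1, e1, e2]
    module
  have hgxy : gh * xh * gh⁻¹ = rh * xh * rh⁻¹ := by
    have hkey : (yy.1 * gh)⁻¹ * (gh * xh) = 1 := by
      have hcomm : ∀ n ∈ Nh, ((yy.1 * gh)⁻¹ * (gh * xh)) * n = n * ((yy.1 * gh)⁻¹ * (gh * xh)) := by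
        intro n hn
        have c1 : Commute yy.1 n := hEN _ yy.2 n hn
        have c2 : Commute gh n := gN n hn
        have c3 : Commute xh n := hEN _ l.xE n hn
        exact ((c1.mul_left c2).inv_left.mul_left (c2.mul_left c3)).eq
      have hi : ∀ u, gh (xh u) = yy.1 (gh u) → ((yy.1 * gh)⁻¹ * (gh * xh)) u = u := by
        intro u hu
        change (yy.1 * gh)⁻¹ (gh (xh u)) = u
        rw [hu]
        exact LinearEquiv.symm_apply_apply (yy.1 * gh) u
      refine A.eq_one hcomm (fun y hy => ?_) (fun y hy => ?_)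
      · rw [hspan y hy, map_sub, map_smul, map_smul, hi v hev, hi w hew]
      · apply hi
        rw [hE _ l.xE y hy, gc y hy, hE _ yy.2 y hy]
    have h4 : gh * xh = yy.1 * gh := by
      rw [inv_mul_eq_one] at hkey
      exact hkey.symm
    rw [h4, mul_assoc, mul_inv_cancel, mul_one]
  have gA : π ⟨gh, hghE⟩ ∈ A0 := l.mem_A T L hghE fun n hn => ⟨1, Or.inl fun v => by rw [one_smul, gN n hn]⟩
  have gC := l.mem_C L hghE fun n hn => ⟨1, fun v => by rw [one_smul, gN n hn]⟩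
  refine T.T7 gA (gC s0 T.sN) ?_
  have h5 : π (⟨gh, hghE⟩ * ⟨xh, l.Eh_le l.xE⟩ * ⟨gh, hghE⟩⁻¹) = π (⟨rh, l.rG⟩ * ⟨xh, l.Eh_le l.xE⟩ * ⟨rh, l.rG⟩⁻¹) :=
    congrArg π (Subtype.ext hgxy)
  rw [map_mul, map_mul, map_mul, map_mul, map_inv, map_inv, l.pi_x, l.pi_r] at h5
  exact h5

/-- **Arf invariant one** -/
theorem arf_one [Finite K] [FiniteDimensional K V] (T : Kit N0 A0 E0 z s0 x r ψ) (L : Lin (E Q) π)
    (l : LKit (E Q) π N0 A0 E0 z s0 x r Nh Eh zh s xh rh) (A : SO Q s n1 m1 n2 m2 α β Nh)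
    (hc : ∃ b : V, b ≠ 0 ∧ s (s b) = -b)
    (hE : ∀ e ∈ Eh, ∀ y, s (s y) = -y → e y = y) : ∀ e ∈ Eh, ∀ y, s (s y) = y → e y = y := by
  by_contra hcon
  push Not at hcon
  obtain ⟨b, hb0, hb⟩ := hc
  -- a nonzero vector of `M`
  have h1 : ∃ u ∈ M, u ≠ 0 := by
    by_contra h
    push Not at h
    obtain ⟨e, he, y, hy, hne⟩ := hcon
    apply hne
    obtain ⟨y0, hy0, y1, hy1, y2, hy2, y3, hy3, rfl⟩ := A.exists_dec (show y ∈ Wr s from hy)
    rw [h y0 hy0, h y1 hy1, h y2 hy2, h y3 hy3]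
    simp
  obtain ⟨u, hu, hu0⟩ := h1
  obtain ⟨ε, -, hε, hv0⟩ := A.eig hu hu0
  set v := (2 : K)⁻¹ • (u + ε • s u) with hv'
  have hvM : v ∈ M := (M).smul_mem _ ((M).add_mem hu ((M).smul_mem _ (A.sM hu)))
  have hsv : s v = ε • v := by
    have hss : s (s u) = u := hu.1
    rw [hv']
    simp only [map_smul, map_add, hss]
    have : (2 : K)⁻¹ • (s u + ε • u) = (2 : K)⁻¹ • ((ε * ε) • s u + ε • u) := by rw [hε, one_smul]
    rw [this]; module
  obtain ⟨w, hw, hsw, hwv⟩ := A.hyp hε hvM hv0 hsv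
  by_cases hspan : ∀ y ∈ M, y = B (d w) y • v - B (d v) y • w
  · exact caseB T L l A hE hcon hε hvM hw hwv hsv hsw hspan
  · push Not at hspan
    obtain ⟨y, hy, hne⟩ := hspan
    obtain ⟨v', w', ε', hε', p1, p2, p3, p4, p5, p6, p7, p8, p9⟩ := A.second hε hvM hw hsv hsw hwv hy hne
    exact caseA T L l A hb0 hb hε hε' hvM hw hwv p1 p2 p5 p6 p7 p8 p9 hsv hsw p3 p4

end main

end Cfsg.Agent.H14.C3
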