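import Cfsg.Agent.H14.C3.ArfOne
import Cfsg.Agent.H14.C3.ArfBase
import Cfsg.Agent.H100.C3.ArfThree

/-!
# S1920, case B, `POmega`, section 5 (helper14)

The case `rho = 0`, `l = 1`: `Nh` commutes on `Vc = ker (sh² + 1)` and `Eh` is trivial there.  `Nh` acts on
`Vr = ker (sh² - 1)` as `⟨±1, sh⟩` times an extraspecial group `2^{1+4}`; Arf invariant zero: helper100, Arf invariant one:
`arf_one`.
-/

set_option autoImplicit false
set_option linter.unusedVariables false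
set_option linter.unusedSectionVars false

open Subgroup

namespace Cfsg.Agent.H14.C3

open Cfsg.Agent.H415.C3 Cfsg.Agent.H100.C3
open Cfsg.Agent.LieClassical.OrthCore Cfsg.Agent.LieClassical.OrthTrans QuadraticMap

variable {K : Type*} [Field K] {V : Type*} [AddCommGroup V] [Module K V]

section main

variable {G : Type*} [Group G] {Q : QuadraticForm K V} {π : ↥(E Q) →* G} {N0 A Ek : Subgroup G} {z s x r : G}
  {ψ : ↥A →* Equiv.Perm (Fin 6)} {Nh Eh : Subgroup (V ≃ₗ[K] V)} {zh sh xh rh : V ≃ₗ[K] V}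

section
variable (S : Sit Q π N0 A Ek z s x r ψ Nh Eh zh sh xh rh)

/-- the restriction to `Vr` -/
def RR : ↥Nh →* Module.End K ↥(Wr sh) where
  toFun n := (n.1 : V →ₗ[K] V).restrict (p := Wr sh) (q := Wr sh) (fun v hv => by
    change sh (sh (n.1 v)) = n.1 v
    rw [S.s_comm' n.2, S.s_comm' n.2, mem_Wr.1 hv])
  map_one' := LinearMap.ext fun v => Subtype.ext rfl
  map_mul' n m := LinearMap.ext fun v => Subtype.ext rfl

theorem RR_apply (n : ↥Nh) (v : ↥(Wr sh)) : ((RR S n v : ↥(Wr sh)) : V) = n.1 v.1 := rfl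

/-- the elements acting as `±1`, and `sh` -/
def ZZ : Subgroup ↥Nh := closure ({⟨sh, S.lk.sN⟩} ∪ {g | RR S g = 1 ∨ RR S g = -1})

include S in
theorem zh_Wr : ∃ c : K, c ≠ 0 ∧ ∀ v, sh (sh v) = v → zh v = c • v := by
  obtain ⟨c, hc, h⟩ := S.lk.s_sq
  refine ⟨c⁻¹, inv_ne_zero hc, fun v hv => ?_⟩
  have h1 : sh (sh v) = c • zh v := h v
  rw [hv] at h1
  nth_rewrite 2 [h1]
  rw [smul_smul, inv_mul_cancel₀ hc, one_smul]

theorem sq_RR (n : ↥Nh) : RR S n * RR S n = 1 ∨ RR S n * RR S n = -1 := by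
  have h2 := S.two
  -- a scalar
  have h : ∃ η : K, ∀ v, sh (sh v) = v → n.1 (n.1 v) = η • v := by
    obtain ⟨c', -, hc'⟩ := zh_Wr S
    obtain ⟨c, -, h | h⟩ := S.lk.sq n.1 n.2
    · exact ⟨c, fun v _ => h v⟩
    · refine ⟨c * c', fun v hv => ?_⟩
      have h1 : n.1 (n.1 v) = c • zh v := h v
      rw [h1, hc' v hv, smul_smul]
  obtain ⟨η, hη⟩ := h
  by_cases hW : ∀ v, sh (sh v) = v → v = 0
  · left
    refine LinearMap.ext fun v => Subtype.ext ?_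
    change n.1 (n.1 v.1) = v.1
    rw [hW v.1 v.2, map_zero, map_zero]
  push Not at hW
  obtain ⟨y, hy, hy0⟩ := hW
  obtain ⟨w, hw⟩ := S.good.nondeg.exists_polar_ne hy0
  have sO : sh ∈ O Q := E_le_O (S.mem_E S.lk.sN)
  have nO : n.1 ∈ O Q := E_le_O (S.mem_E n.2)
  let a := (2 : K)⁻¹ • (w + sh (sh w))
  have ha : sh (sh a) = a := by
    simp only [a, map_smul, map_add, S.s4]
    rw [add_comm]
  have hya : polar Q y a = polar Q y w := by
    have h3 : polar Q y (sh (sh w)) = polar Q y w := by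
      have h4 : polar Q (sh (sh y)) (sh (sh w)) = polar Q y w := by rw [polar_map sO, polar_map sO]
      rwa [hy] at h4
    simp only [a, polar_smul_right, polar_add_right, h3, smul_eq_mul]
    rw [← two_mul, ← mul_assoc, inv_mul_cancel₀ h2, one_mul]
  have h5 : η * η * polar Q y w = polar Q y w := by
    have h6 : polar Q (n.1 (n.1 y)) (n.1 (n.1 a)) = polar Q y a := by rw [polar_map nO, polar_map nO]
    rw [hη y hy, hη a ha, polar_smul_left, polar_smul_right, hya, smul_eq_mul, smul_eq_mul] at h6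
    rw [mul_assoc]
    exact h6
  have h7 : η * η = 1 := mul_right_cancel₀ hw (by rw [h5, one_mul])
  have h8 : (η - 1) * (η + 1) = 0 := by linear_combination h7
  rcases mul_eq_zero.1 h8 with h9 | h9
  · left
    refine LinearMap.ext fun v => Subtype.ext ?_
    change n.1 (n.1 v.1) = v.1
    rw [hη v.1 v.2, sub_eq_zero.1 h9, one_smul]
  · right
    refine LinearMap.ext fun v => Subtype.ext ?_
    change n.1 (n.1 v.1) = -v.1
    rw [hη v.1 v.2, eq_neg_of_add_eq_zero_left h9, neg_one_smul]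

/-- the image in `G` -/
theorem comm_or [Finite G] (n m : ↥Nh) :
    (RR S n * RR S m = RR S m * RR S n ∧ π ⟨n.1, S.mem_E n.2⟩ * π ⟨m.1, S.mem_E m.2⟩ = π ⟨m.1, S.mem_E m.2⟩ * π ⟨n.1, S.mem_E n.2⟩) ∨
    (RR S n * RR S m = -(RR S m * RR S n) ∧
      π ⟨n.1, S.mem_E n.2⟩ * π ⟨m.1, S.mem_E m.2⟩ = z * (π ⟨m.1, S.mem_E m.2⟩ * π ⟨n.1, S.mem_E n.2⟩)) := by
  rcases S.dich n.2 m.2 with ⟨h1, h2⟩ | ⟨h1, h2⟩
  · exact Or.inl ⟨LinearMap.ext fun v => Subtype.ext (h1 v.1), h2⟩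
  · exact Or.inr ⟨LinearMap.ext fun v => Subtype.ext (h1 v.1 v.2), h2⟩

theorem comm_pos [Finite G] {n m : ↥Nh} (h : π ⟨n.1, S.mem_E n.2⟩ * π ⟨m.1, S.mem_E m.2⟩ = π ⟨m.1, S.mem_E m.2⟩ * π ⟨n.1, S.mem_E n.2⟩) :
    RR S n * RR S m = RR S m * RR S n := by
  rcases comm_or S n m with ⟨h1, -⟩ | ⟨-, h2⟩
  · exact h1
  · rw [h] at h2
    exact absurd (by simpa using h2 : z = 1) S.kit.z_ne

theorem comm_neg [Finite G] {n m : ↥Nh} (h : π ⟨n.1, S.mem_E n.2⟩ * π ⟨m.1, S.mem_E m.2⟩ = z * (π ⟨m.1, S.mem_E m.2⟩ * π ⟨n.1, S.mem_E n.2⟩)) :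
    RR S n * RR S m = -(RR S m * RR S n) := by
  rcases comm_or S n m with ⟨-, h2⟩ | ⟨h1, -⟩
  · rw [h] at h2
    exact absurd (by simpa using h2 : z = 1) S.kit.z_ne
  · exact h1

/-- **a symplectic basis** -/
theorem exists_bas [Finite G] : ∃ n1 m1 n2 m2 : ↥Nh, Bas (RR S) (ZZ S) n1 m1 n2 m2 := by
  obtain ⟨a1, ha1, b1, hb1, a2, ha2, b2, hb2, h1, h2, h3, h4, h5, h6, h7⟩ := exists_basis S.kit
  obtain ⟨A1, hA1, rfl⟩ := S.lk.exists_Nh S.lin ha1
  obtain ⟨B1, hB1, rfl⟩ := S.lk.exists_Nh S.lin hb1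
  obtain ⟨A2, hA2, rfl⟩ := S.lk.exists_Nh S.lin ha2
  obtain ⟨B2, hB2, rfl⟩ := S.lk.exists_Nh S.lin hb2
  have h1' : π B1 * π A1 = z * (π A1 * π B1) := by rw [h1, ← mul_assoc, S.kit.z_sq, one_mul]
  have h2' : π B2 * π A2 = z * (π A2 * π B2) := by rw [h2, ← mul_assoc, S.kit.z_sq, one_mul]
  refine ⟨⟨A1, hA1⟩, ⟨B1, hB1⟩, ⟨A2, hA2⟩, ⟨B2, hB2⟩, ?_⟩
  refine ⟨comm_neg S h1, comm_neg S h2, comm_pos S h3, comm_pos S h4, comm_pos S h5, comm_pos S h6, ?_⟩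
  intro H g1 g2 g3 g4 g5
  rw [eq_top_iff]
  intro n _
  have pm : ∀ n : ↥Nh, π ⟨n.1, S.mem_E n.2⟩ ∈ N0 := fun n => S.pi_mem n.2
  -- commuting with everything
  have P4 : ∀ n : ↥Nh, π ⟨n.1, S.mem_E n.2⟩ * π A1 = π A1 * π ⟨n.1, S.mem_E n.2⟩ →
      π ⟨n.1, S.mem_E n.2⟩ * π B1 = π B1 * π ⟨n.1, S.mem_E n.2⟩ →
      π ⟨n.1, S.mem_E n.2⟩ * π A2 = π A2 * π ⟨n.1, S.mem_E n.2⟩ →
      π ⟨n.1, S.mem_E n.2⟩ * π B2 = π B2 * π ⟨n.1, S.mem_E n.2⟩ → n ∈ H := by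
    intro n k1 k2 k3 k4
    obtain ⟨k, hk⟩ := mem_powers_iff_mem_zpowers.2 (h7 _ (pm n) k1 k2 k3 k4)
    have hk' : s ^ k = π ⟨n.1, S.mem_E n.2⟩ := hk
    obtain ⟨c, hc0, hc⟩ := S.lin.smul_of_eq (g := ⟨n.1, S.mem_E n.2⟩) (h := ⟨sh, S.mem_E S.lk.sN⟩ ^ k) (by
      rw [map_pow, S.lk.pi_s, hk'])
    have hsk : (⟨sh, S.lk.sN⟩ : ↥Nh) ^ k ∈ H := pow_mem (g5 (subset_closure (Or.inl rfl))) k
    let g : ↥Nh := n * (⟨sh, S.lk.sN⟩ ^ k)⁻¹
    have hg : ∀ v, g.1 v = c • v := by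
      intro v
      change n.1 ((((⟨sh, S.lk.sN⟩ : ↥Nh) ^ k)⁻¹ : ↥Nh).1 v) = c • v
      have e1 := hc ((((⟨sh, S.lk.sN⟩ : ↥Nh) ^ k)⁻¹ : ↥Nh).1 v)
      refine e1.trans ?_
      congr 1
      exact LinearEquiv.apply_symm_apply (sh ^ k) v
    have hcc : c * c = 1 := by
      obtain ⟨v, hv0, -⟩ := S.c_ne
      obtain ⟨w, hw⟩ := S.good.nondeg.exists_polar_ne hv0
      have h8 : polar Q (g.1 v) (g.1 w) = polar Q v w := polar_map (E_le_O (S.mem_E g.2)) v w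
      rw [hg, hg, polar_smul_left, polar_smul_right, smul_eq_mul, smul_eq_mul, ← mul_assoc] at h8
      exact mul_right_cancel₀ hw (by rw [h8, one_mul])
    have h8 : (c - 1) * (c + 1) = 0 := by linear_combination hcc
    have hgZ : g ∈ H := by
      refine g5 (subset_closure (Or.inr ?_))
      rcases mul_eq_zero.1 h8 with h9 | h9
      · left
        refine LinearMap.ext fun v => Subtype.ext ?_
        change g.1 v.1 = v.1
        rw [hg, sub_eq_zero.1 h9, one_smul]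
      · right
        refine LinearMap.ext fun v => Subtype.ext ?_
        change g.1 v.1 = -v.1
        rw [hg, eq_neg_of_add_eq_zero_left h9, neg_one_smul]
    have := mul_mem hgZ hsk
    rwa [inv_mul_cancel_right] at this
  -- one correction
  have cor : ∀ (p q : ↥(E Q)) (hp : (p : V ≃ₗ[K] V) ∈ Nh) (hq : (q : V ≃ₗ[K] V) ∈ Nh),
      π p * π q = z * (π q * π p) → (⟨q, hq⟩ : ↥Nh) ∈ H → ∀ n : ↥Nh,
      ∃ n' : ↥Nh, (n' = n ∨ n' = n * ⟨q, hq⟩) ∧ π ⟨n'.1, S.mem_E n'.2⟩ * π p = π p * π ⟨n'.1, S.mem_E n'.2⟩ := by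
    intro p q hp hq hpq _ n
    obtain ⟨y', hy', hyp⟩ := fix_comm S.kit (S.pi_mem hp) (S.pi_mem hq) (pm n) hpq
    rcases hy' with rfl | rfl
    · exact ⟨n, Or.inl rfl, hyp⟩
    · refine ⟨n * ⟨q, hq⟩, Or.inr rfl, ?_⟩
      have e1 : π ⟨(n * ⟨q, hq⟩ : ↥Nh).1, S.mem_E (n * ⟨q, hq⟩ : ↥Nh).2⟩ = π ⟨n.1, S.mem_E n.2⟩ * π q := by
        rw [← map_mul]; rfl
      rw [e1]
      exact hyp
  have keep : ∀ (n : ↥Nh) (q : ↥(E Q)) (hq : (q : V ≃ₗ[K] V) ∈ Nh) (p : G),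
      π ⟨n.1, S.mem_E n.2⟩ * p = p * π ⟨n.1, S.mem_E n.2⟩ → π q * p = p * π q →
      π ⟨(n * ⟨q, hq⟩ : ↥Nh).1, S.mem_E (n * ⟨q, hq⟩ : ↥Nh).2⟩ * p
        = p * π ⟨(n * ⟨q, hq⟩ : ↥Nh).1, S.mem_E (n * ⟨q, hq⟩ : ↥Nh).2⟩ := by
    intro n q hq p k1 k2
    have e1 : π ⟨(n * ⟨q, hq⟩ : ↥Nh).1, S.mem_E (n * ⟨q, hq⟩ : ↥Nh).2⟩ = π ⟨n.1, S.mem_E n.2⟩ * π q := by
      rw [← map_mul]; rfl
    rw [e1, mul_assoc, k2, ← mul_assoc, k1, mul_assoc]
  have back : ∀ (n q : ↥Nh), q ∈ H → n * q ∈ H → n ∈ H := by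
    intro n q hq hnq
    have := mul_mem hnq (inv_mem hq)
    rwa [mul_inv_cancel_right] at this
  have P3 : ∀ n : ↥Nh, π ⟨n.1, S.mem_E n.2⟩ * π A1 = π A1 * π ⟨n.1, S.mem_E n.2⟩ →
      π ⟨n.1, S.mem_E n.2⟩ * π B1 = π B1 * π ⟨n.1, S.mem_E n.2⟩ →
      π ⟨n.1, S.mem_E n.2⟩ * π A2 = π A2 * π ⟨n.1, S.mem_E n.2⟩ → n ∈ H := by
    intro n k1 k2 k3
    obtain ⟨n', hn', k4⟩ := cor B2 A2 hB2 hA2 h2' g3 n
    rcases hn' with rfl | rfl
    · exact P4 _ k1 k2 k3 k4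
    · exact back _ _ g3 (P4 _ (keep _ _ hA2 _ k1 h3.symm) (keep _ _ hA2 _ k2 h5.symm) (keep _ _ hA2 _ k3 rfl) k4)
  have P2 : ∀ n : ↥Nh, π ⟨n.1, S.mem_E n.2⟩ * π A1 = π A1 * π ⟨n.1, S.mem_E n.2⟩ →
      π ⟨n.1, S.mem_E n.2⟩ * π B1 = π B1 * π ⟨n.1, S.mem_E n.2⟩ → n ∈ H := by
    intro n k1 k2
    obtain ⟨n', hn', k4⟩ := cor A2 B2 hA2 hB2 h2 g4 n
    rcases hn' with rfl | rfl
    · exact P3 _ k1 k2 k4
    · exact back _ _ g4 (P3 _ (keep _ _ hB2 _ k1 h4.symm) (keep _ _ hB2 _ k2 h6.symm) k4)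
  have P1 : ∀ n : ↥Nh, π ⟨n.1, S.mem_E n.2⟩ * π A1 = π A1 * π ⟨n.1, S.mem_E n.2⟩ → n ∈ H := by
    intro n k1
    obtain ⟨n', hn', k4⟩ := cor B1 A1 hB1 hA1 h1' g1 n
    rcases hn' with rfl | rfl
    · exact P2 _ k1 k4
    · exact back _ _ g1 (P2 _ (keep _ _ hA1 _ k1 rfl) k4)
  obtain ⟨n', hn', k4⟩ := cor A1 B1 hA1 hB1 h1 g2 n
  rcases hn' with rfl | rfl
  · exact P1 _ k4
  · exact back _ _ g2 (P1 _ k4)

end

/-- **Section 5** -/
theorem sec_five_aux [Finite G] [Finite K] [FiniteDimensional K V] (S : Sit Q π N0 A Ek z s x r ψ Nh Eh zh sh xh rh)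
    (hE : ∀ e ∈ Eh, ∀ v, sh (sh v) = -v → e v = v)
    (hzero : ∀ (ε : K) (n1 n2 m1 m2 : V ≃ₗ[K] V), HypB Nh sh ε n1 n2 m1 m2 → ∀ e ∈ Eh, ∀ v, sh v = ε • v → e v = v) :
    False := by
  -- it is enough that `Eh` is trivial on `Vr`
  suffices hV : ∀ e ∈ Eh, ∀ v, sh (sh v) = v → e v = v by
    apply S.lk.Eh_ne S.kit
    rw [eq_bot_iff]
    intro e he
    rw [Subgroup.mem_bot]
    refine LinearEquiv.ext fun v => ?_
    have h2 := S.two
    have e1 : v = (2 : K)⁻¹ • (v + sh (sh v)) + (2 : K)⁻¹ • (v - sh (sh v)) := by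
      have : v = ((2 : K)⁻¹ * 2) • v := by rw [inv_mul_cancel₀ h2, one_smul]
      nth_rewrite 1 [this]
      module
    change e v = v
    rw [e1, map_add, hV e he _ (by simp only [map_smul, map_add, S.s4]; rw [add_comm]),
      hE e he _ (by simp only [map_smul, map_sub, S.s4]; module)]
  obtain ⟨n1, m1, n2, m2, hB⟩ := exists_bas S
  obtain ⟨a, b, c, e, hB, ha, hb, hce⟩ := hB.exists_arf (sq_RR S)
  have val : ∀ {f g : Module.End K ↥(Wr sh)}, f = g → ∀ (v : V) (hv : sh (sh v) = v), (f ⟨v, hv⟩ : V) = (g ⟨v, hv⟩ : V) := by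
    intro f g h v hv
    rw [h]
  rcases hce with ⟨hc, he⟩ | ⟨hc, he⟩
  · -- Arf invariant zero
    have hyp : ∀ ε : K, (ε = 1 ∨ ε = -1) → HypB Nh sh ε a.1 c.1 b.1 e.1 := by
      intro ε hε
      have hw : ∀ v, sh v = ε • v → sh (sh v) = v := by
        intro v hv
        rw [hv, map_smul, hv, smul_smul]
        rcases hε with rfl | rfl
        · rw [one_mul, one_smul]
        · rw [neg_mul_neg, one_mul, one_smul]
      exact
        { eps := hε
          n1N := a.2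
          n2N := c.2
          m1N := b.2
          m2N := e.2
          n11 := fun v hv => val ha v (hw v hv)
          n22 := fun v hv => val hc v (hw v hv)
          m11 := fun v hv => val hb v (hw v hv)
          m22 := fun v hv => val he v (hw v hv)
          nn := fun v hv => val hB.c1 v (hw v hv)
          mm := fun v hv => val hB.c4 v (hw v hv)
          nm12 := fun v hv => val hB.c2 v (hw v hv)
          nm21 := fun v hv => (val hB.c3 v (hw v hv)).symm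
          nm11 := fun v hv => val hB.ac1 v (hw v hv)
          nm22 := fun v hv => val hB.ac2 v (hw v hv) }
    intro f hf v hv
    have h2 := S.two
    have e1 : v = (2 : K)⁻¹ • (v + sh v) + (2 : K)⁻¹ • (v - sh v) := by
      have : v = ((2 : K)⁻¹ * 2) • v := by rw [inv_mul_cancel₀ h2, one_smul]
      nth_rewrite 1 [this]
      module
    rw [e1, map_add, hzero 1 _ _ _ _ (hyp 1 (Or.inl rfl)) f hf _ (by simp only [map_smul, map_add, hv]; module),
      hzero (-1) _ _ _ _ (hyp (-1) (Or.inr rfl)) f hf _ (by simp only [map_smul, map_sub, hv]; module)]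
  · -- Arf invariant one
    obtain ⟨α, β, hαβ⟩ : ∃ α β : K, α * α + β * β = -1 := by
      obtain ⟨p, hp⟩ := CharP.exists K
      have hpp : p.Prime := CharP.char_is_prime K p
      have : NeZero p := ⟨hpp.ne_zero⟩
      obtain ⟨a, b, hab⟩ := CharP.sq_add_sq K p (-1)
      refine ⟨a, b, ?_⟩
      rw [← pow_two, ← pow_two, hab]
      push_cast; rfl
    have hA : SO Q sh a.1 b.1 c.1 e.1 α β Nh :=
      { two := S.two
        On1 := E_le_O (S.mem_E a.2)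
        Om1 := E_le_O (S.mem_E b.2)
        On2 := E_le_O (S.mem_E c.2)
        Om2 := E_le_O (S.mem_E e.2)
        Wn1 := fun v hv => (RR S a ⟨v, hv⟩).2
        Wm1 := fun v hv => (RR S b ⟨v, hv⟩).2
        Wn2 := fun v hv => (RR S c ⟨v, hv⟩).2
        Wm2 := fun v hv => (RR S e ⟨v, hv⟩).2
        n1n1 := fun v hv => val ha v hv
        m1m1 := fun v hv => val hb v hv
        n2n2 := fun v hv => val hc v hv
        m2m2 := fun v hv => val he v hv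
        n1m1 := fun v hv => val hB.ac1 v hv
        n2m2 := fun v hv => val hB.ac2 v hv
        n1n2 := fun v hv => val hB.c1 v hv
        n1m2 := fun v hv => val hB.c2 v hv
        m1n2 := fun v hv => val hB.c3 v hv
        m1m2 := fun v hv => val hB.c4 v hv
        ab := hαβ
        nd := S.good.nondeg
        Os := E_le_O (S.mem_E S.lk.sN)
        s4 := S.s4
        NO := fun n hn => E_le_O (S.mem_E hn)
        Ns := fun n hn v => (S.s_comm' hn v).symm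
        N1 := a.2
        M1 := b.2
        N2 := c.2
        M2 := e.2
        gen := by
          intro H k1 k2 k3 k4 k5 k6
          have h1 := hB.gen (H.subgroupOf Nh) k1 k2 k3 k4 (by
            rw [ZZ, closure_le]
            rintro g (rfl | hg)
            · exact k5
            · refine k6 g.1 g.2 ?_
              rcases hg with hg | hg
              · exact Or.inl fun v hv => val hg v hv
              · exact Or.inr fun v hv => val hg v hv)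
          intro n hn
          have h2 : (⟨n, hn⟩ : ↥Nh) ∈ H.subgroupOf Nh := by rw [h1]; trivial
          exact h2 }
    exact arf_one S.kit S.lin S.lk hA S.c_ne hE

/-- **Section 5** -/
theorem sec_five [Finite G] [Finite K] [FiniteDimensional K V] (S : Sit Q π N0 A Ek z s x r ψ Nh Eh zh sh xh rh)
    (hE : ∀ e ∈ Eh, ∀ v, sh (sh v) = -v → e v = v) : False :=
  sec_five_aux S hE fun _ _ _ _ _ B => arf_zero S B

end main

end Cfsg.Agent.H14.C3
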